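import Mathlib
import Cfsg.Agent.Lib.PGroups.UniqueInvolution

/-!
# `p`-groups without a suitable normal four-group

A finite `p`-group either has `z` central and `e`, both of order `p`, with all conjugates of `e` in
`e ⟨z⟩` and `e ∉ ⟨z⟩`, or is cyclic, or (`p = 2`) has a cyclic subgroup of index two.
-/

set_option autoImplicit false

namespace Cfsg.Agent.Lib.OrbitPowers

open Subgroup
open scoped commutatorElement
open Cfsg.Agent.Lib.PGroups

variable {P : Type*} [Group P] [Finite P] {p : ℕ} [hp : Fact p.Prime]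

/-- A pair giving an imprimitivity system. -/
def BlockPair (p : ℕ) (P : Type*) [Group P] : Prop :=
  ∃ z e : P, z ∈ center P ∧ orderOf z = p ∧ orderOf e = p ∧ e ∉ zpowers z ∧
    ∀ g : P, ∃ j : ℕ, g * e * g⁻¹ = e * z ^ j

open scoped Classical in
theorem blockPair_of_normal (hP : IsPGroup p P) {E : Subgroup P} [hEn : E.Normal]
    (hE : Cfsg.IsElementaryAbelian p E) (hc : Nat.card E = p ^ 2) : BlockPair p P := by
  have hne : E ≠ ⊥ := fun h => by
    rw [h, card_bot] at hc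
    exact (Nat.one_lt_pow two_ne_zero hp.out.one_lt).ne hc
  obtain ⟨Z, hZE, hZc, hZn, hZ⟩ := exists_central_card_prime hP E hne
  obtain ⟨z, hzZ, hz⟩ := exists_orderOf_eq_prime_of_ne_bot (hP.to_subgroup Z) (fun h => by
    rw [h, card_bot] at hZ; exact hp.out.ne_one hZ.symm)
  have hZz : zpowers z = Z := eq_of_le_of_card_ge (zpowers_le.2 hzZ) (by rw [Nat.card_zpowers, hz, hZ])
  obtain ⟨e, heE, heZ⟩ : ∃ e ∈ E, e ∉ Z := by
    by_contra hcon
    push Not at hcon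
    have := card_le_of_le (show E ≤ Z from hcon)
    rw [hc, hZ] at this
    have := hp.out.two_le
    nlinarith
  have he1 : e ≠ 1 := fun h => heZ (h ▸ one_mem Z)
  refine ⟨z, e, hZc hzZ, hz, orderOf_eq_prime (hE.2 e heE) he1, hZz ▸ heZ, fun g => ?_⟩
  haveI := hZn
  set f := QuotientGroup.mk' Z
  have hfE : Nat.card (E.map f) = p := by
    rw [← relIndex_bot_left (E.map f), ← QuotientGroup.map_mk'_self Z, relIndex_map_map,
      QuotientGroup.ker_mk', sup_idem, sup_of_le_left hZE]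
    have h1 := card_mul_index (Z.subgroupOf E)
    rw [Nat.card_congr (subgroupOfEquivOfLe hZE).toEquiv, hZ, hc, pow_two] at h1
    exact Nat.eq_of_mul_eq_mul_left hp.out.pos h1
  have hEn' : (E.map f).Normal := hEn.map f (QuotientGroup.mk'_surjective Z)
  have hne' : E.map f ≠ ⊥ := fun h => by
    rw [h, card_bot] at hfE; exact hp.out.ne_one hfE.symm
  obtain ⟨Y, hYE, hYc, -, hY⟩ := exists_central_card_prime (hP.to_quotient Z) (E.map f) hne'
  have hcen : E.map f ≤ center (P ⧸ Z) := (eq_of_le_of_card_ge hYE (by rw [hY, hfE])) ▸ hYc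
  have h2 : e⁻¹ * (g * e * g⁻¹) ∈ Z := by
    refine (QuotientGroup.eq).1 ?_
    show f e = f (g * e * g⁻¹)
    rw [map_mul, map_mul, map_inv, mem_center_iff.1 (hcen (mem_map_of_mem f heE)) (f g),
      mul_inv_cancel_right]
  rw [← hZz, mem_zpowers_iff_mem_range_orderOf] at h2
  simp only [Finset.mem_image, Finset.mem_range] at h2
  obtain ⟨j, -, hj⟩ := h2
  exact ⟨j, by rw [hj, mul_inv_cancel_left]⟩

theorem sq_one_mod {n : ℕ} (hn : 2 ≤ n) {k : ℤ} (hk : (2 : ℤ) ^ n ∣ k ^ 2 - 1) :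
    (2 : ℤ) ^ (n - 1) ∣ k - 1 ∨ (2 : ℤ) ^ (n - 1) ∣ k + 1 := by
  obtain ⟨m, rfl⟩ := Nat.exists_eq_add_of_le hn
  have h2 : (2 : ℤ) ∣ k ^ 2 - 1 := (dvd_pow_self 2 (by omega)).trans hk
  obtain ⟨c, rfl⟩ : Odd k := by
    rcases Int.even_or_odd k with h | h
    · obtain ⟨d, rfl⟩ := h
      obtain ⟨t, ht⟩ := h2
      have : (d + d) ^ 2 = 2 * (2 * d ^ 2) := by ring
      omega
    · exact h
  have hd : (2 : ℤ) ^ m ∣ c * (c + 1) := by
    have e : (2 * c + 1) ^ 2 - 1 = 4 * (c * (c + 1)) := by ring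
    rw [e, pow_add] at hk
    exact (mul_dvd_mul_iff_left (show (4 : ℤ) ≠ 0 by norm_num)).1 (by simpa using hk)
  have hprime : Prime (2 : ℤ) := Int.prime_two
  show (2 : ℤ) ^ (2 + m - 1) ∣ _ ∨ _
  rw [show 2 + m - 1 = m + 1 by omega, pow_succ']
  by_cases hc : (2 : ℤ) ∣ c
  · left
    rw [show 2 * c + 1 - 1 = 2 * c by ring]
    have hodd : ¬ (2 : ℤ) ∣ c + 1 := by omega
    exact mul_dvd_mul_left 2 (((hprime.coprime_iff_not_dvd).2 hodd).pow_left.dvd_of_dvd_mul_right hd)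
  · right
    rw [show 2 * c + 1 + 1 = 2 * (c + 1) by ring]
    exact mul_dvd_mul_left 2 (((hprime.coprime_iff_not_dvd).2 hc).pow_left.dvd_of_dvd_mul_left hd)

/-- In `(ℤ/2^n)ˣ` a subgroup with at least three elements contains `1 + 2^(n-1)`. -/
theorem exists_unit_half {n : ℕ} (U : Subgroup (ZMod (2 ^ n))ˣ) (hU : 3 ≤ Nat.card U) :
    3 ≤ n ∧ ∃ u ∈ U, ((u : (ZMod (2 ^ n))ˣ) : ZMod (2 ^ n)) = 1 + 2 ^ (n - 1) := by
  have hn : 3 ≤ n := by
    by_contra h
    have h1 := hU.trans (card_le_card_group U)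
    rw [Nat.card_eq_fintype_card, ZMod.card_units_eq_totient] at h1
    interval_cases n <;> revert h1 <;> decide
  refine ⟨hn, ?_⟩
  have hh : ((2 : ZMod (2 ^ n)) ^ n) = 0 := by
    have h0 := ZMod.natCast_self (2 ^ n)
    push_cast at h0
    exact h0
  have hdvd : ∀ (k : ℤ) (j : ℕ), (2 : ℤ) ^ j ∣ k →
      ∃ t : ℤ, ((k : ℤ) : ZMod (2 ^ n)) = (t : ZMod (2 ^ n)) * 2 ^ j := by
    rintro k j ⟨t, rfl⟩
    exact ⟨t, by push_cast; ring⟩
  -- classify the elements of square one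
  have hclass : ∀ u : (ZMod (2 ^ n))ˣ, u ^ 2 = 1 →
      (u : ZMod (2 ^ n)) = 1 ∨ (u : ZMod (2 ^ n)) = -1 ∨ (u : ZMod (2 ^ n)) = 1 + 2 ^ (n - 1) ∨
        (u : ZMod (2 ^ n)) = -1 + 2 ^ (n - 1) := by
    intro u hu
    obtain ⟨k, hk⟩ := ZMod.intCast_surjective (u : ZMod (2 ^ n))
    have hk2 : ((k ^ 2 - 1 : ℤ) : ZMod (2 ^ n)) = 0 := by
      push_cast
      rw [hk, ← Units.val_pow_eq_pow_val, hu]
      simp
    have hpar : ∀ t : ℤ, (t : ZMod (2 ^ n)) * 2 ^ (n - 1) = 0 ∨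
        (t : ZMod (2 ^ n)) * 2 ^ (n - 1) = 2 ^ (n - 1) := by
      intro t
      have e : (2 : ZMod (2 ^ n)) * 2 ^ (n - 1) = 0 := by
        rw [← pow_succ', show n - 1 + 1 = n by omega, hh]
      rcases Int.even_or_odd t with ⟨s, rfl⟩ | ⟨s, rfl⟩
      · left; push_cast; rw [← two_mul, mul_assoc, mul_left_comm, e, mul_zero]
      · right; push_cast; rw [add_mul, mul_assoc, mul_left_comm, e, mul_zero, zero_add, one_mul]
    have hk2' : (2 : ℤ) ^ n ∣ k ^ 2 - 1 := by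
      have := (ZMod.intCast_zmod_eq_zero_iff_dvd _ _).1 hk2
      exact_mod_cast this
    rcases sq_one_mod (by omega) hk2' with h | h
    · obtain ⟨t, ht⟩ := hdvd _ _ h
      push_cast at ht
      rw [hk, sub_eq_iff_eq_add] at ht
      rcases hpar t with h' | h' <;> rw [h'] at ht
      · exact Or.inl (ht.trans (zero_add 1))
      · exact Or.inr (Or.inr (Or.inl (ht.trans (add_comm _ _))))
    · obtain ⟨t, ht⟩ := hdvd _ _ h
      push_cast at ht
      rw [hk, ← eq_sub_iff_add_eq] at ht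
      rcases hpar t with h' | h' <;> rw [h'] at ht
      · exact Or.inr (Or.inl (ht.trans (zero_sub 1)))
      · exact Or.inr (Or.inr (Or.inr (ht.trans (by ring))))
  by_cases hall : ∀ u ∈ U, u ^ 2 = 1
  · by_contra hcon
    push Not at hcon
    -- only three values remain, and `-1`, `-1 + h` multiply to the missing one
    obtain ⟨a, ha, b, hb, hab, ha1, hb1⟩ : ∃ a ∈ U, ∃ b ∈ U, a ≠ b ∧ a ≠ 1 ∧ b ≠ 1 := by
      classical
      haveI := Fintype.ofFinite U
      rw [Nat.card_eq_fintype_card] at hU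
      obtain ⟨a, b, c, hab, hac, hbc⟩ := Fintype.two_lt_card_iff.1 (show 2 < Fintype.card U by omega)
      have hn1 : ∀ x y : U, x ≠ y → (x : (ZMod (2 ^ n))ˣ) ≠ y := fun x y h e => h (Subtype.ext e)
      by_cases ha : (a : (ZMod (2 ^ n))ˣ) = 1
      · exact ⟨b, b.2, c, c.2, hn1 _ _ hbc, fun h => hn1 _ _ hab (ha.trans h.symm),
          fun h => hn1 _ _ hac (ha.trans h.symm)⟩
      by_cases hb : (b : (ZMod (2 ^ n))ˣ) = 1
      · exact ⟨a, a.2, c, c.2, hn1 _ _ hac, ha, fun h => hn1 _ _ hbc (hb.trans h.symm)⟩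
      exact ⟨a, a.2, b, b.2, hn1 _ _ hab, ha, hb⟩
    have hv : ∀ u ∈ U, u ≠ 1 → (u : ZMod (2 ^ n)) = -1 ∨ (u : ZMod (2 ^ n)) = -1 + 2 ^ (n - 1) := by
      intro u hu hu1
      rcases hclass u (hall u hu) with h | h | h | h
      · exact absurd (Units.ext h) hu1
      · exact Or.inl h
      · exact absurd h (hcon u hu)
      · exact Or.inr h
    have hzero : (2 : ZMod (2 ^ n)) ^ (n - 1) * 2 = 0 := by
      rw [← pow_succ, show n - 1 + 1 = n by omega, hh]
    refine hcon (a * b) (U.mul_mem ha hb) ?_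
    rw [Units.val_mul]
    rcases hv a ha ha1 with h1 | h1 <;> rcases hv b hb hb1 with h2 | h2
    · exact absurd (Units.ext (h1.trans h2.symm)) hab
    · rw [h1, h2]; linear_combination -hzero
    · rw [h1, h2]; linear_combination -hzero
    · exact absurd (Units.ext (h1.trans h2.symm)) hab
  · push Not at hall
    obtain ⟨u, hu, hu2⟩ := hall
    -- the involution in `⟨u²⟩` is a square
    obtain ⟨j, hj⟩ : ∃ j : ℕ, orderOf (u ^ 2) = 2 ^ j := by
      have h1 : orderOf (u ^ 2) ∣ 2 ^ (n - 1) := by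
        refine orderOf_dvd_card.trans (dvd_of_eq ?_)
        rw [ZMod.card_units_eq_totient, Nat.totient_prime_pow Nat.prime_two (by omega)]
        norm_num
      obtain ⟨j, -, hj⟩ := (Nat.dvd_prime_pow Nat.prime_two).1 h1
      exact ⟨j, hj⟩
    obtain ⟨i, rfl⟩ : ∃ i, j = i + 1 := Nat.exists_eq_succ_of_ne_zero fun h => by
      rw [h, pow_zero, orderOf_eq_one_iff] at hj; exact hu2 hj
    set v := u ^ 2 ^ i with hv
    refine ⟨v ^ 2, U.pow_mem (U.pow_mem hu _) _, ?_⟩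
    have e : v ^ 2 = (u ^ 2) ^ 2 ^ i := by rw [hv, ← pow_mul, ← pow_mul, mul_comm]
    have hw : (v ^ 2) ^ 2 = 1 := by
      rw [e, ← pow_mul, ← pow_succ, ← hj, pow_orderOf_eq_one]
    have hw1 : v ^ 2 ≠ 1 := fun h => by
      have := orderOf_dvd_of_pow_eq_one (e ▸ h)
      rw [hj, Nat.pow_dvd_pow_iff_le_right (by norm_num)] at this
      omega
    obtain ⟨k, hk⟩ := ZMod.intCast_surjective (v : ZMod (2 ^ n))
    have hodd : Odd k := by
      have hinv : (v : ZMod (2 ^ n)) * ((v⁻¹ : (ZMod (2 ^ n))ˣ) : ZMod (2 ^ n)) = 1 := v.mul_inv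
      obtain ⟨l, hl⟩ := ZMod.intCast_surjective ((v⁻¹ : (ZMod (2 ^ n))ˣ) : ZMod (2 ^ n))
      rw [← hk, ← hl, ← Int.cast_mul, ← Int.cast_one,
        ZMod.intCast_eq_intCast_iff_dvd_sub] at hinv
      have h2 : (2 : ℤ) ∣ 1 - k * l := by
        have hinv' : (2 : ℤ) ^ n ∣ 1 - k * l := by exact_mod_cast hinv
        exact (dvd_pow_self 2 (by omega)).trans hinv'
      rcases Int.even_or_odd k with ⟨d, rfl⟩ | h
      · rw [← two_mul, mul_assoc] at h2; omega
      · exact h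
    have h8 : (8 : ℤ) ∣ k ^ 2 - 1 := Int.eight_dvd_sq_sub_one_of_odd hodd
    have hsq : ((v ^ 2 : (ZMod (2 ^ n))ˣ) : ZMod (2 ^ n)) = ((k ^ 2 : ℤ) : ZMod (2 ^ n)) := by
      push_cast; rw [hk]
    have hcast : ∀ a : ℤ, ((v ^ 2 : (ZMod (2 ^ n))ˣ) : ZMod (2 ^ n)) = (a : ZMod (2 ^ n)) →
        (8 : ℤ) ∣ a - 1 := by
      intro a ha
      rw [hsq, ZMod.intCast_eq_intCast_iff_dvd_sub] at ha
      have h3 : (8 : ℤ) ∣ a - k ^ 2 := by
        refine dvd_trans ?_ ha
        have : (2 : ℤ) ^ 3 ∣ (2 : ℤ) ^ n := pow_dvd_pow 2 hn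
        exact_mod_cast this
      have := h3.add h8
      rwa [show a - k ^ 2 + (k ^ 2 - 1) = a - 1 by ring] at this
    rcases hclass _ hw with h | h | h | h
    · exact absurd (Units.ext h) hw1
    · exact absurd (hcast (-1) (by rw [h]; norm_num)) (by norm_num)
    · exact h
    · have h3 := hcast (-1 + 2 ^ (n - 1)) (by rw [h]; push_cast; rfl)
      rcases (show n = 3 ∨ 4 ≤ n by omega) with rfl | h4
      · norm_num at h3
      · have : (2 : ℤ) ^ 3 ∣ (2 : ℤ) ^ (n - 1) := pow_dvd_pow 2 (by omega)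
        omega

open scoped Classical in
theorem blockPair_or_index_two (hP : IsPGroup 2 P) :
    BlockPair 2 P ∨ ∃ b : P, (zpowers b).index ∣ 2 := by
  obtain ⟨B, -, hBn, hB, hmax⟩ := exists_maximal_normal_abelian (⊥ : Subgroup P)
    (le_centralizer_iff_isMulCommutative.mp (by simp))
  haveI := hBn
  by_cases hBc : IsCyclic B
  swap
  · left
    have := omegaOne_normal (p := 2) (K := B)
    obtain ⟨M, hMn, hM, hMc⟩ := exists_normal_le_card hP (Cfsg.omegaOne 2 B)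
      (sq_le_card_omegaOne hB (hP.to_subgroup B) hBc)
    haveI := hMn
    exact blockPair_of_normal hP (elemAb_mono (elemAb_omegaOne hB) hM) hMc
  have hC := centralizer_eq_self_of_maximal hP hB hmax
  obtain ⟨b, hb⟩ := (B.isCyclic_iff_exists_zpowers_eq_top).mp hBc
  obtain ⟨n, hn⟩ := IsPGroup.iff_card.1 (hP.to_subgroup B)
  have hbord : orderOf b = 2 ^ n := by rw [← Nat.card_zpowers, hb, hn]
  have hex : ∀ g : P, ∃ k : ℕ, b ^ k = g * b * g⁻¹ := fun g => by
    have h1 : g * b * g⁻¹ ∈ zpowers b := hb.symm ▸ hBn.conj_mem b (hb ▸ mem_zpowers b) g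
    rw [mem_zpowers_iff_mem_range_orderOf] at h1
    simp only [Finset.mem_image, Finset.mem_range] at h1
    exact ⟨_, h1.choose_spec.2⟩
  choose k hk using hex
  have hkeq : ∀ i j : ℕ, b ^ i = b ^ j → (i : ZMod (2 ^ n)) = j := fun i j h => by
    rw [ZMod.natCast_eq_natCast_iff, ← hbord]; exact pow_eq_pow_iff_modEq.1 h
  have hconjB : ∀ g : P, ∀ y ∈ B, g * y * g⁻¹ = y ^ k g := fun g y hy => by
    obtain ⟨i, rfl⟩ := mem_zpowers_iff.1 (hb.symm ▸ hy : y ∈ zpowers b)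
    rw [← conj_zpow, ← hk g, ← zpow_natCast, ← zpow_natCast, ← zpow_mul, ← zpow_mul, mul_comm]
  let χ : P →* ZMod (2 ^ n) :=
    { toFun := fun g => (k g : ZMod (2 ^ n))
      map_one' := by
        rw [← Nat.cast_one]; refine hkeq _ _ ?_
        rw [hk, pow_one]; group
      map_mul' := fun g g' => by
        rw [← Nat.cast_mul]; refine hkeq _ _ ?_
        rw [mul_comm, pow_mul, hk, hk, ← hconjB g (g' * b * g'⁻¹) (hBn.conj_mem b (hb ▸ mem_zpowers b) g')]
        group }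
  let ψ : P →* (ZMod (2 ^ n))ˣ := χ.toHomUnits
  have hψv : ∀ g, ((ψ g : (ZMod (2 ^ n))ˣ) : ZMod (2 ^ n)) = (k g : ZMod (2 ^ n)) := fun g => rfl
  have hker : ψ.ker = B := by
    ext g
    rw [MonoidHom.mem_ker, Units.ext_iff, hψv, Units.val_one]
    constructor
    · intro h
      rw [← Nat.cast_one, ZMod.natCast_eq_natCast_iff, ← hbord, ← pow_eq_pow_iff_modEq, hk, pow_one] at h
      rw [← hC, mem_centralizer_iff]
      intro y hy
      obtain ⟨i, rfl⟩ := mem_zpowers_iff.1 (hb.symm ▸ hy : y ∈ zpowers b)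
      exact ((show Commute g b from mul_inv_eq_iff_eq_mul.1 h).zpow_right i).eq.symm
    · intro h
      rw [← Nat.cast_one]
      refine hkeq _ _ ?_
      rw [hk, pow_one, mul_inv_eq_iff_eq_mul]
      exact congrArg Subtype.val (hB.is_comm.comm (⟨g, h⟩ : B) ⟨b, hb ▸ mem_zpowers b⟩)
  by_cases hidx : B.index ∣ 2
  · exact Or.inr ⟨b, hb.symm ▸ hidx⟩
  left
  have hU : 3 ≤ Nat.card ψ.range := by
    rw [← index_ker, hker]
    by_contra h
    have h0 : B.index ≠ 0 := index_ne_zero_of_finite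
    rcases (show B.index = 1 ∨ B.index = 2 by omega) with h' | h' <;> rw [h'] at hidx <;> simp at hidx
  obtain ⟨hn3, u, ⟨x, rfl⟩, hu⟩ := exists_unit_half ψ.range hU
  set h : ℕ := 2 ^ (n - 1) with hh
  have hh2 : h + h = 2 ^ n := by rw [hh, ← two_mul, ← pow_succ', show n - 1 + 1 = n by omega]
  -- conjugation by `x`
  have hxval : ((ψ x : (ZMod (2 ^ n))ˣ) : ZMod (2 ^ n)) = ((1 + h : ℕ) : ZMod (2 ^ n)) := by
    rw [hu]; simp [hh]
  have hxconj : ∀ y ∈ B, x * y * x⁻¹ = y ^ (1 + h) := by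
    intro y hy
    rw [hconjB x y hy, pow_eq_pow_iff_modEq]
    obtain ⟨i, rfl⟩ := mem_zpowers_iff.1 (hb.symm ▸ hy : y ∈ zpowers b)
    refine Nat.ModEq.of_dvd (orderOf_dvd_of_pow_eq_one (?_ : (b ^ i) ^ (2 ^ n) = 1)) ?_
    · rw [← zpow_natCast, ← zpow_mul, mul_comm, zpow_mul, zpow_natCast, ← hbord, pow_orderOf_eq_one, one_zpow]
    · exact (ZMod.natCast_eq_natCast_iff _ _ _).1 ((hψv x).symm.trans hxval)
  set z := b ^ h with hz
  have hzord : orderOf z = 2 := by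
    rw [hz, orderOf_pow_of_dvd (by positivity) (by rw [hbord]; exact Dvd.intro_left 2 (by omega)),
      hbord, ← hh2, ← two_mul, Nat.mul_div_cancel _ (by positivity)]
  have hbB : ∀ i : ℕ, b ^ i ∈ B := fun i => hb ▸ pow_mem (mem_zpowers b) i
  -- `x ^ 2 = b ^ s` with `s` even
  have hx2 : x ^ 2 ∈ B := by
    rw [← hC, mem_centralizer_iff]
    intro y hy
    have e1 := hxconj y hy
    have e2 : x ^ 2 * y * (x ^ 2)⁻¹ = y := by
      rw [show x ^ 2 * y * (x ^ 2)⁻¹ = x * (x * y * x⁻¹) * x⁻¹ by rw [pow_two]; group, e1,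
        hxconj _ (pow_mem hy _), ← pow_mul]
      have hy2 : y ^ 2 ^ n = 1 := by
        obtain ⟨i, rfl⟩ := mem_zpowers_iff.1 (hb.symm ▸ hy : y ∈ zpowers b)
        rw [← zpow_natCast, ← zpow_mul, mul_comm, zpow_mul, zpow_natCast, ← hbord,
          pow_orderOf_eq_one, one_zpow]
      have e3 : (1 + h) * (1 + h) = 1 + 2 ^ n * (1 + 2 ^ (n - 2)) := by
        have : h * h = 2 ^ n * 2 ^ (n - 2) := by
          rw [hh, ← pow_add, ← pow_add]; congr 1; omega
        rw [← hh2] at this ⊢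
        linarith
      rw [e3, pow_add, pow_one, pow_mul, hy2, one_pow, mul_one]
    exact (mul_inv_eq_iff_eq_mul.1 e2).symm
  have hzcomm : ∀ g : P, g * z = z * g := by
    intro g
    have h1 : g * z * g⁻¹ ∈ B := hBn.conj_mem _ (hbB h) g
    obtain ⟨i, hi⟩ := (mem_zpowers_iff_mem_range_orderOf.1 (hb.symm ▸ h1 : g * z * g⁻¹ ∈ zpowers b)
      |> fun hm => by simpa using hm : ∃ i : ℕ, i < orderOf b ∧ b ^ i = g * z * g⁻¹)
    have hord : orderOf (g * z * g⁻¹) = 2 :=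
      (orderOf_injective (MulAut.conj g).toMonoidHom (MulAut.conj g).injective z).trans hzord
    have h2 : b ^ (i * 2) = 1 := by rw [pow_mul, hi.2, ← hord, pow_orderOf_eq_one]
    obtain ⟨c', hc'⟩ := orderOf_dvd_of_pow_eq_one h2
    rw [hbord, ← hh2] at hc'
    have hlt := hi.1
    rw [hbord, ← hh2] at hlt
    have hi2 : i = 0 ∨ i = h := by
      rcases c' with _ | _ | c'
      · left; omega
      · right; omega
      · exfalso; nlinarith
    rcases hi2 with rfl | rfl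
    · rw [← hi.2, pow_zero, orderOf_one] at hord; omega
    · exact mul_inv_eq_iff_eq_mul.1 hi.2.symm
  obtain ⟨s, hs⟩ : ∃ s : ℕ, b ^ s = x ^ 2 := by
    have := mem_zpowers_iff_mem_range_orderOf.1 (hb.symm ▸ hx2 : x ^ 2 ∈ zpowers b)
    simp only [Finset.mem_image, Finset.mem_range] at this
    exact ⟨_, this.choose_spec.2⟩
  have hseven : 2 ∣ s := by
    have h1 : b ^ s = (b ^ s) ^ (1 + h) := by
      rw [← hxconj _ (hbB s), hs]; group
    rw [pow_add, pow_one, left_eq_mul, ← pow_mul] at h1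
    obtain ⟨c', hc'⟩ := orderOf_dvd_of_pow_eq_one h1
    rw [hbord, ← hh2] at hc'
    exact ⟨c', Nat.eq_of_mul_eq_mul_right (show 0 < h by positivity) (by rw [hc']; ring)⟩
  have hsq : ∀ i : ℕ, (b ^ i * x) ^ 2 = b ^ (i + i * (1 + h) + s) := fun i => by
    rw [pow_two, pow_add, pow_add, hs, pow_mul, ← hxconj _ (hbB i)]; group
  -- an involution outside `B`
  obtain ⟨t, ht⟩ : ∃ t : ℕ, h = 2 * t := ⟨2 ^ (n - 2), by
    rw [hh, ← pow_succ', show n - 2 + 1 = n - 1 by omega]⟩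
  have hcop : Nat.Coprime (1 + t) h := by
    rw [hh]
    refine Nat.Coprime.pow_right _ (Nat.coprime_two_right.2 ?_)
    have : 2 ∣ t := ⟨2 ^ (n - 3), by
      have e : h = 2 * (2 * 2 ^ (n - 3)) := by
        rw [hh, ← pow_succ', ← pow_succ', show n - 3 + 1 + 1 = n - 1 by omega]
      omega⟩
    rw [Nat.odd_iff]
    omega
  obtain ⟨i, hi⟩ : ∃ i : ℕ, 2 ^ n ∣ i + i * (1 + h) + s := by
    obtain ⟨a, ha⟩ := hseven
    obtain ⟨i, hi⟩ : ∃ i : ℕ, h ∣ i * (1 + t) + a := by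
      have hb' : ((1 + t : ℕ) : ZMod h) * (ZMod.unitOfCoprime _ hcop)⁻¹.val = 1 := by
        rw [← ZMod.coe_unitOfCoprime (1 + t) hcop, Units.mul_inv]
      haveI : NeZero h := ⟨by positivity⟩
      refine ⟨(-(a : ZMod h) * (ZMod.unitOfCoprime _ hcop)⁻¹.val).val, ?_⟩
      rw [← ZMod.natCast_eq_zero_iff, Nat.cast_add, Nat.cast_mul, ZMod.natCast_zmod_val,
        mul_assoc, mul_comm ((ZMod.unitOfCoprime _ hcop)⁻¹.val) _, hb', mul_one, neg_add_cancel]
    refine ⟨i, ?_⟩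
    rw [← hh2, show h + h = 2 * h by ring, show i + i * (1 + h) + s = 2 * (i * (1 + t) + a) by
      rw [ha, ht]; ring]
    exact mul_dvd_mul_left 2 hi
  set e := b ^ i * x with he
  have hxB : x ∉ B := by
    intro hx
    rw [← hker, MonoidHom.mem_ker] at hx
    rw [hx, Units.val_one, ← Nat.cast_one, ZMod.natCast_eq_natCast_iff', ← hh2] at hxval
    have : 1 < h := by omega
    rw [Nat.mod_eq_of_lt (show 1 < h + h by omega), Nat.mod_eq_of_lt (show 1 + h < h + h by omega)] at hxval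
    omega
  have heB : e ∉ B := fun h' => hxB ((B.mul_mem_cancel_left (hbB i)).1 h')
  have heord : orderOf e = 2 := by
    refine orderOf_eq_prime ?_ fun h' => heB (h' ▸ one_mem B)
    rw [he, hsq, ← orderOf_dvd_iff_pow_eq_one, hbord]; exact hi
  refine ⟨z, e, mem_center_iff.2 hzcomm, hzord, heord, fun h' => heB (zpowers_le.2 (hbB h) h'), fun g => ?_⟩
  -- conjugates of `e` are involutions of `e B`
  have h1 : ψ (e⁻¹ * (g * e * g⁻¹)) = 1 := by
    simp only [map_mul, map_inv]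
    rw [mul_comm (ψ g) (ψ e), mul_inv_cancel_right, inv_mul_cancel]
  rw [← MonoidHom.mem_ker, hker, ← hb, mem_zpowers_iff_mem_range_orderOf] at h1
  simp only [Finset.mem_image, Finset.mem_range] at h1
  obtain ⟨j, hjlt, hj⟩ := h1
  have hg : g * e * g⁻¹ = e * b ^ j := by rw [hj, mul_inv_cancel_left]
  have hg2 : (e * b ^ j) ^ 2 = 1 := by
    rw [← hg, conj_pow, ← heord, pow_orderOf_eq_one, mul_one, mul_inv_cancel]
  have hcj : e * b ^ j * e⁻¹ = b ^ (j * (1 + h)) := by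
    rw [he, pow_mul, ← hxconj _ (hbB j),
      show b ^ i * x * b ^ j * (b ^ i * x)⁻¹ = b ^ i * (x * b ^ j * x⁻¹) * (b ^ i)⁻¹ by group,
      hxconj _ (hbB j), ← pow_mul, ← pow_add, add_comm i, pow_add, mul_inv_cancel_right]
  have he2 : e * e = 1 := by rw [← pow_two, ← heord, pow_orderOf_eq_one]
  have hdvd : 2 ^ n ∣ 2 * (j * (1 + t)) := by
    rw [← hbord, orderOf_dvd_iff_pow_eq_one, show 2 * (j * (1 + t)) = j * (1 + h) + j by rw [ht]; ring,
      pow_add, ← hcj]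
    rw [pow_two] at hg2
    rw [show e⁻¹ = e from inv_eq_of_mul_eq_one_right he2, ← hg2]
    group
  rw [← hh2, show h + h = 2 * h by ring] at hdvd
  have hjdvd : h ∣ j :=
    hcop.symm.dvd_of_dvd_mul_right (Nat.dvd_of_mul_dvd_mul_left (by norm_num) hdvd)
  obtain ⟨c', rfl⟩ := hjdvd
  exact ⟨c', by rw [hg, hz, pow_mul]⟩

end Cfsg.Agent.Lib.OrbitPowers
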