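import Mathlib
import Cfsg.Agent.S0007
import Cfsg.Agent.Lib.SylowNumbers.Basic
import Cfsg.Agent.Lib.OrbitPowers.TwoGroup

/-!
# Coprime linear groups with orbits of prime power size: basics and imprimitivity
-/

set_option autoImplicit false

namespace Cfsg.Agent.Lib.OrbitPowers

open Subgroup

universe u w

variable {A : Type w} [Group A] {q p : ℕ} [hq : Fact q.Prime] [hp : Fact p.Prime]
  {V : Type u} [AddCommGroup V] [Module (ZMod q) V]

/-- The stabilizer of a vector. -/
def fixer (ρ : A →* Module.End (ZMod q) V) (v : V) : Subgroup A where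
  carrier := {a | ρ a v = v}
  one_mem' := by simp
  mul_mem' {a b} ha hb := by
    show ρ (a * b) v = v
    rw [map_mul, Module.End.mul_apply]
    exact (congrArg (ρ a) hb).trans ha
  inv_mem' {a} ha := by
    show ρ a⁻¹ v = v
    conv_lhs => rw [← (ha : ρ a v = v)]
    rw [← Module.End.mul_apply, ← map_mul, inv_mul_cancel, map_one, Module.End.one_apply]

theorem mem_fixer {ρ : A →* Module.End (ZMod q) V} {v : V} {a : A} :
    a ∈ fixer ρ v ↔ ρ a v = v := Iff.rfl

/-- Faithful, coprime, all orbits of `p`-power size. -/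
structure Good (p : ℕ) (ρ : A →* Module.End (ZMod q) V) : Prop where
  inj : Function.Injective ρ
  cop : ¬q ∣ Nat.card A
  orb : ∀ v, ∃ a, (fixer ρ v).index = p ^ a

/-- Perfect groups have no nontrivial homomorphisms to commutative groups. -/
theorem hom_eq_one (hperf : commutator A = ⊤) {M : Type*} [CommGroup M] (f : A →* M) (a : A) :
    f a = 1 :=
  MonoidHom.mem_ker.1 (Abelianization.commutator_subset_ker f (hperf ▸ mem_top a))

variable {ρ : A →* Module.End (ZMod q) V}

theorem inv_apply_self (a : A) (v : V) : ρ a⁻¹ (ρ a v) = v := by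
  rw [← Module.End.mul_apply, ← map_mul, inv_mul_cancel, map_one, Module.End.one_apply]

variable [Finite A]

theorem eq_one_of_unipotent (h : Good p ρ) {a : A} (ha : (ρ a - 1) * (ρ a - 1) = 0) : a = 1 := by
  have key : ∀ k : ℕ, ρ a ^ k = 1 + (k : ZMod q) • (ρ a - 1) := by
    intro k
    induction k with
    | zero => simp
    | succ k ih =>
      set N := ρ a - 1 with hN
      have e : ρ a = 1 + N := by rw [hN]; abel
      rw [pow_succ, ih, Nat.cast_succ, add_smul, one_smul, e, add_mul, one_mul, smul_mul_assoc,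
        mul_add, mul_one, ha, add_zero]
      abel
  have h1 : a ^ q = 1 := h.inj (by rw [map_pow, key, ZMod.natCast_self, zero_smul, add_zero, map_one])
  rcases (Nat.dvd_prime hq.out).1 (orderOf_dvd_of_pow_eq_one h1) with h2 | h2
  · exact orderOf_eq_one_iff.1 h2
  · exact absurd (h2 ▸ orderOf_dvd_natCard a) h.cop

/-- Every orbit is an orbit of a Sylow `p`-subgroup. -/
theorem exists_sylow_apply (h : Good p ρ) (P : Sylow p A) (a : A) (v : V) :
    ∃ g ∈ (P : Subgroup A), ρ a v = ρ g v := by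
  obtain ⟨k, hk⟩ := h.orb v
  have hco : (P : Subgroup A).index.Coprime (fixer ρ v).index := by
    rw [hk]
    exact ((hp.out.coprime_iff_not_dvd).2 P.not_dvd_index).symm.pow_right k
  obtain ⟨g, hg, c, hc, rfl⟩ := (S0007.result _ _ hco).2 a
  exact ⟨g, hg, by rw [map_mul, Module.End.mul_apply, mem_fixer.1 hc]⟩

/-- A normal subgroup of order a power of a prime other than `p` is trivial. -/
theorem eq_bot_of_isPGroup (h : Good p ρ) {r : ℕ} [hr : Fact r.Prime] (hrp : r ≠ p) {N : Subgroup A}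
    [N.Normal] (hN : IsPGroup r N) : N = ⊥ := by
  refine (eq_bot_iff_forall _).2 fun a ha => h.inj ?_
  refine LinearMap.ext fun v => ?_
  obtain ⟨k, hk⟩ := h.orb v
  obtain ⟨i, hi⟩ := IsPGroup.iff_card.1 hN
  have h1 : (fixer ρ v).relIndex N ∣ p ^ k :=
    hk ▸ SylowNumbers.Basic.relIndex_dvd_index_of_normal_right _ N
  have h2 : (fixer ρ v).relIndex N ∣ r ^ i := hi ▸ relIndex_dvd_card _ N
  have h3 : (fixer ρ v).relIndex N = 1 :=
    Nat.eq_one_of_dvd_coprimes (((Nat.coprime_primes hp.out hr.out).2 (Ne.symm hrp)).pow k i) h1 h2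
  rw [map_one, Module.End.one_apply]
  exact mem_fixer.1 (relIndex_eq_one.1 h3 ha)

/-- No invariant subspace for the Sylow subgroup. -/
def SylowIrreducible (ρ : A →* Module.End (ZMod q) V) (P : Subgroup A) : Prop :=
  ∀ W : Submodule (ZMod q) V, (∀ g ∈ P, ∀ w ∈ W, ρ g w ∈ W) → W = ⊥ ∨ W = ⊤

/-- The fixed space of an element. -/
def fixSpace (ρ : A →* Module.End (ZMod q) V) (a : A) : Submodule (ZMod q) V :=
  LinearMap.ker (ρ a - 1)

theorem mem_fixSpace {a : A} {v : V} : v ∈ fixSpace ρ a ↔ ρ a v = v := by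
  rw [fixSpace, LinearMap.mem_ker, LinearMap.sub_apply, Module.End.one_apply, sub_eq_zero]

theorem fixSpace_eq_bot (h : Good p ρ) (P : Sylow p A) (hirr : SylowIrreducible ρ P) {z : A}
    (hz1 : z ≠ 1) (hz : ∀ g ∈ (P : Subgroup A), g * z = z * g) : fixSpace ρ z = ⊥ := by
  refine (hirr _ fun g hg w hw => ?_).resolve_right fun htop => hz1 (h.inj ?_)
  · rw [mem_fixSpace] at hw ⊢
    rw [← Module.End.mul_apply, ← map_mul, ← hz g hg, map_mul, Module.End.mul_apply, hw]
  · refine LinearMap.ext fun v => ?_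
    rw [map_one, Module.End.one_apply]
    exact mem_fixSpace.1 (htop ▸ Submodule.mem_top)

variable [Finite V]

/-- A block pair in the Sylow subgroup is impossible in a perfect group. -/
theorem false_of_blockPair (h : Good p ρ) (hperf : commutator A = ⊤) (P : Sylow p A)
    (hirr : SylowIrreducible ρ P) [Nontrivial V] (hb : BlockPair p (P : Subgroup A)) : False := by
  obtain ⟨z₀, e₀, hzc, hzo, heo, hez, hconj⟩ := hb
  set z : A := (z₀ : A) with hz
  set e : A := (e₀ : A) with he
  have hzc' : ∀ g ∈ (P : Subgroup A), g * z = z * g := fun g hg =>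
    congrArg Subtype.val (mem_center_iff.1 hzc ⟨g, hg⟩)
  have hzp : z ^ p = 1 := by
    have h1 := pow_orderOf_eq_one z₀
    rw [hzo] at h1
    exact congrArg Subtype.val h1
  have hep : e ^ p = 1 := by
    have h1 := pow_orderOf_eq_one e₀
    rw [heo] at h1
    exact congrArg Subtype.val h1
  have hze : Commute z e := (hzc' e e₀.2).symm
  have hz1 : z ≠ 1 := fun h1 => hp.out.ne_one (by rw [← hzo, ← Subgroup.orderOf_coe, ← hz, h1, orderOf_one])
  have hqp : q ≠ p := fun hqp => h.cop (hqp ▸ hzo ▸ Subgroup.orderOf_coe z₀ ▸ orderOf_dvd_natCard z)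
  haveI : NeZero p := ⟨hp.out.ne_zero⟩
  have hpow : ∀ i : ℕ, z ^ ((i : ZMod p).val) = z ^ i := fun i => by
    rw [ZMod.val_natCast, pow_eq_pow_mod i hzp]
  have hadd : ∀ i j : ZMod p, z ^ (i + j).val = z ^ i.val * z ^ j.val := fun i j => by
    rw [ZMod.val_add, ← pow_eq_pow_mod _ hzp, pow_add]
  -- the blocks
  set c : ZMod p → A := fun i => e * z ^ i.val with hc
  have hcp : ∀ i, c i ^ p = 1 := fun i => by
    rw [hc, (hze.symm.pow_right i.val).mul_pow, hep, ← pow_mul, mul_comm, pow_mul, hzp, one_pow, one_mul]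
  have hcomm : ∀ i k, Commute (c i) (c k) := fun i k =>
    ((Commute.refl e).mul_right (hze.symm.pow_right _)).mul_left
      ((hze.pow_left _).mul_right ((Commute.refl z).pow_pow _ _))
  have hzfix : ∀ j : ZMod p, j ≠ 0 → ∀ v, ρ (z ^ j.val) v = v → v = 0 := by
    intro j hj v hv
    have h1 : fixSpace ρ (z ^ j.val) = ⊥ := by
      refine fixSpace_eq_bot h P hirr (fun h1 => hj ?_) fun g hg =>
        (show Commute g z from hzc' g hg).pow_right j.val
      have h2 := orderOf_dvd_of_pow_eq_one h1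
      rw [hz, Subgroup.orderOf_coe, hzo] at h2
      exact (ZMod.val_eq_zero j).1 (Nat.eq_zero_of_dvd_of_lt h2 j.val_lt)
    exact (Submodule.mem_bot (ZMod q)).1 (h1 ▸ mem_fixSpace.2 hv)
  have hpq0 : (p : ZMod q) ≠ 0 := fun h0 =>
    hqp ((Nat.prime_dvd_prime_iff_eq hq.out hp.out).1 ((ZMod.natCast_eq_zero_iff p q).1 h0))
  let π : ZMod p → V → V := fun i v => (p : ZMod q)⁻¹ • ∑ j ∈ Finset.range p, ρ (c i ^ j) v
  have hπmem : ∀ i v, ρ (c i) (π i v) = π i v := by
    intro i v
    simp only [π, map_smul, map_sum, ← Module.End.mul_apply, ← map_mul, ← pow_succ']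
    congr 1
    obtain ⟨m, hm⟩ : ∃ m, p = m + 1 := ⟨p - 1, by have := hp.out.two_le; omega⟩
    rw [hm, Finset.sum_range_succ, Finset.sum_range_succ' (fun j => ρ (c i ^ j) v), ← hm, hcp, pow_zero]
  have hπadd : ∀ i v v', π i (v + v') = π i v + π i v' := fun i v v' => by
    simp [π, map_add, Finset.sum_add_distrib, smul_add]
  have hsum : ∀ v, ∑ i, π i v = v := by
    intro v
    simp only [π, ← Finset.smul_sum]
    rw [Finset.sum_comm, Finset.sum_eq_single 0]
    · simp only [pow_zero, map_one, Module.End.one_apply, Finset.sum_const, Finset.card_univ,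
        ZMod.card]
      rw [← Nat.cast_smul_eq_nsmul (ZMod q), smul_smul, inv_mul_cancel₀ hpq0, one_smul]
    · intro j hj hj0
      have hjlt := Finset.mem_range.1 hj
      have e1 : ∀ i : ZMod p, c i ^ j = e ^ j * z ^ ((j : ZMod p) * i).val := fun i => by
        rw [hc, (hze.symm.pow_right i.val).mul_pow, ← pow_mul, ← hpow (i.val * j)]
        push_cast
        rw [ZMod.natCast_zmod_val, mul_comm i]
      simp only [e1, map_mul, Module.End.mul_apply, ← map_sum]
      have hjne : (j : ZMod p) ≠ 0 := fun h0 => hj0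
        (Nat.eq_zero_of_dvd_of_lt ((ZMod.natCast_eq_zero_iff j p).1 h0) hjlt)
      rw [show ∑ x : ZMod p, ρ (z ^ ((j : ZMod p) * x).val) v = ∑ x : ZMod p, ρ (z ^ x.val) v from
        Equiv.sum_comp (Equiv.mulLeft₀ (j : ZMod p) hjne) (fun i => ρ (z ^ i.val) v)]
      have h0 : ∑ i : ZMod p, ρ (z ^ i.val) v = 0 := by
        refine hzfix 1 one_ne_zero _ ?_
        rw [map_sum]
        simp only [← Module.End.mul_apply, ← map_mul, ← hadd]
        exact Equiv.sum_comp (Equiv.addLeft (1 : ZMod p)) fun i => ρ (z ^ i.val) v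
      rw [h0, map_zero]
    · intro h0; exact absurd (Finset.mem_range.2 hp.out.pos) h0
  have hπne : ∀ i k v, ρ (c i) v = v → k ≠ i → π k v = 0 := by
    intro i k v hv hki
    have h1 : ρ (c i) (π k v) = π k v := by
      simp only [π, map_smul, map_sum]
      refine congrArg _ (Finset.sum_congr rfl fun j _ => ?_)
      rw [← Module.End.mul_apply, ← map_mul, ((hcomm i k).pow_right j).eq, map_mul,
        Module.End.mul_apply, hv]
    refine hzfix (k - i) (sub_ne_zero.2 hki) _ ?_
    have h2 : c k = c i * z ^ (k - i).val := by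
      rw [hc]; simp only
      rw [mul_assoc, ← hadd, add_sub_cancel]
    have h3 := hπmem k v
    rw [h2, map_mul, Module.End.mul_apply] at h3
    have h4 := congrArg (ρ (c i)⁻¹) h3
    rw [inv_apply_self] at h4
    rw [h4]
    conv_lhs => rw [← h1]
    rw [inv_apply_self]
  have hπid : ∀ i v, ρ (c i) v = v → π i v = v := by
    intro i v hv
    conv_rhs => rw [← hsum v]
    rw [Finset.sum_eq_single i (fun k _ hk => hπne i k v hv hk)
      (fun h0 => absurd (Finset.mem_univ i) h0)]
  have huniq : ∀ i k v, v ≠ 0 → ρ (c i) v = v → ρ (c k) v = v → i = k := by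
    intro i k v hv0 hi hk
    by_contra hne
    exact hv0 ((hπid i v hi).symm.trans (hπne k i v hk hne))
  -- the Sylow subgroup permutes the blocks by translations
  have hshift : ∀ g ∈ (P : Subgroup A), ∃ j : ZMod p, ∀ i v, ρ (c i) v = v →
      ρ (c (i + j)) (ρ g v) = ρ g v := by
    intro g hg
    obtain ⟨j, hj⟩ := hconj ⟨g, hg⟩
    have hj' : g * e * g⁻¹ = e * z ^ j := congrArg Subtype.val hj
    refine ⟨j, fun i v hv => ?_⟩
    have h1 : c (i + j) * g = g * c i := by
      rw [hc]; simp only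
      rw [hadd, hpow, ← mul_assoc g, mul_inv_eq_iff_eq_mul.1 hj',
        mul_assoc _ g, (show Commute g z from hzc' g hg).pow_right i.val |>.eq,
        ((Commute.refl z).pow_pow i.val j).eq]
      group
    rw [← Module.End.mul_apply, ← map_mul, h1, map_mul, Module.End.mul_apply, hv]
  obtain ⟨g₀, hg₀, j₀, hj₀, hg₀j⟩ : ∃ g₀ ∈ (P : Subgroup A), ∃ j₀ : ZMod p, j₀ ≠ 0 ∧
      ∀ i v, ρ (c i) v = v → ρ (c (i + j₀)) (ρ g₀ v) = ρ g₀ v := by
    by_contra hcon
    push Not at hcon
    obtain ⟨v, hv⟩ := exists_ne (0 : V)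
    obtain ⟨i, hi⟩ : ∃ i, π i v ≠ 0 := by
      by_contra h0
      push Not at h0
      exact hv ((hsum v).symm.trans (Finset.sum_eq_zero fun i _ => h0 i))
    rcases hirr (fixSpace ρ (c i)) fun g hg w hw => by
        obtain ⟨j, hj⟩ := hshift g hg
        by_cases hj0 : j = 0
        · subst hj0; simpa [mem_fixSpace] using hj i w (mem_fixSpace.1 hw)
        · obtain ⟨i', v', h1, h2⟩ := hcon g hg j hj0
          exact absurd (hj i' v' h1) h2 with h0 | h0
    · exact hi ((Submodule.mem_bot (ZMod q)).1 (h0 ▸ mem_fixSpace.2 (hπmem i v)))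
    · refine hez ?_
      have h1 : c i = 1 := h.inj (LinearMap.ext fun x => by
        rw [map_one, Module.End.one_apply]; exact mem_fixSpace.1 (h0 ▸ Submodule.mem_top))
      rw [hc] at h1
      refine mem_zpowers_iff.2 ⟨-(i.val : ℤ), Subtype.ext ?_⟩
      rw [zpow_neg, zpow_natCast, Subgroup.coe_inv, SubmonoidClass.coe_pow, ← hz]
      exact (eq_inv_of_mul_eq_one_left h1).symm
  have hne0 : ∀ i, ∃ v, v ≠ 0 ∧ ρ (c i) v = v := by
    obtain ⟨v, hv⟩ := exists_ne (0 : V)
    obtain ⟨i, hi⟩ : ∃ i, π i v ≠ 0 := by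
      by_contra h0
      push Not at h0
      exact hv ((hsum v).symm.trans (Finset.sum_eq_zero fun i _ => h0 i))
    have h1 : ∀ n : ℕ, ∃ v, v ≠ 0 ∧ ρ (c (i + n * j₀)) v = v := by
      intro n
      induction n with
      | zero => exact ⟨_, hi, by simpa using hπmem i v⟩
      | succ n ih =>
        obtain ⟨x, hx, hxf⟩ := ih
        refine ⟨ρ g₀ x, fun h0 => hx ?_, ?_⟩
        · rw [← inv_apply_self (ρ := ρ) g₀ x, h0, map_zero]
        · have := hg₀j _ x hxf
          rwa [show i + (n : ZMod p) * j₀ + j₀ = i + ((n + 1 : ℕ) : ZMod p) * j₀ by push_cast; ring] at this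
    intro k
    obtain ⟨x, hx⟩ := h1 ((k - i) * j₀⁻¹).val
    rw [ZMod.natCast_zmod_val, mul_assoc, inv_mul_cancel₀ hj₀, mul_one, add_sub_cancel] at hx
    exact ⟨x, hx⟩
  -- `A` permutes the blocks
  have hσ : ∀ a : A, ∀ i, ∃ k, ∀ v, ρ (c i) v = v → ρ (c k) (ρ a v) = ρ a v := by
    intro a i
    obtain ⟨v₀, hv₀, hv₀f⟩ := hne0 i
    have hex : ∀ v, ρ (c i) v = v → ∃ k, ρ (c k) (ρ a v) = ρ a v := fun v hv => by
      obtain ⟨g, hg, hge⟩ := exists_sylow_apply h P a v
      obtain ⟨j, hj⟩ := hshift g hg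
      exact ⟨i + j, hge.symm ▸ hj i v hv⟩
    obtain ⟨k, hk⟩ := hex v₀ hv₀f
    refine ⟨k, fun v hv => ?_⟩
    obtain ⟨k', hk'⟩ := hex v hv
    by_cases hv0 : v = 0
    · simp [hv0]
    by_cases hkk : k' = k
    · exact hkk ▸ hk'
    obtain ⟨k'', hk''⟩ := hex (v₀ + v) (by rw [map_add, hv₀f, hv])
    rw [map_add (ρ a)] at hk''
    have hne : ∀ x : V, x ≠ 0 → ρ a x ≠ 0 := fun x hx h0 => hx (by
      rw [← inv_apply_self (ρ := ρ) a x, h0, map_zero])
    have e1 : k'' = k := by
      by_contra hne'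
      have h1 := hπne k'' k _ hk'' (Ne.symm hne')
      rw [hπadd, hπid k _ hk, hπne k' k _ hk' (Ne.symm hkk), add_zero] at h1
      exact hne _ hv₀ h1
    have e2 : k'' = k' := by
      by_contra hne'
      have h1 := hπne k'' k' _ hk'' (Ne.symm hne')
      rw [hπadd, hπid k' _ hk', hπne k k' _ hk hkk, zero_add] at h1
      exact hne _ hv0 h1
    exact absurd (e2.symm.trans e1) hkk
  choose σ hσ using hσ
  have hne' : ∀ (a : A) (x : V), x ≠ 0 → ρ a x ≠ 0 := fun a x hx h0 => hx (by
    rw [← inv_apply_self (ρ := ρ) a x, h0, map_zero])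
  have hσeq : ∀ a i k, (∀ v, ρ (c i) v = v → ρ (c k) (ρ a v) = ρ a v) → σ a i = k := by
    intro a i k hk
    obtain ⟨v, hv, hvf⟩ := hne0 i
    exact huniq _ _ _ (hne' a v hv) (hσ a i v hvf) (hk v hvf)
  have hσmul : ∀ a b i, σ (a * b) i = σ a (σ b i) := fun a b i =>
    hσeq _ _ _ fun v hv => by
      rw [show ρ (a * b) v = ρ a (ρ b v) by rw [map_mul]; rfl]; exact hσ a _ _ (hσ b i v hv)
  have hσone : ∀ i, σ 1 i = i := fun i => hσeq _ _ _ fun v hv => by simpa using hv
  have hσinj : ∀ a, Function.Injective (σ a) := fun a i k hik => by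
    rw [← hσone i, ← hσone k, ← inv_mul_cancel a, hσmul, hσmul, hik]
  -- adjacency is preserved
  have hadj : ∀ a i, σ a (i + 1) - σ a i = 1 ∨ σ a (i + 1) - σ a i = -1 := by
    intro a i
    obtain ⟨x, hx, hxf⟩ := hne0 i
    obtain ⟨y, hy, hyf⟩ := hne0 (i + 1)
    obtain ⟨g, hg, hge⟩ := exists_sylow_apply h P a (x + y)
    obtain ⟨j, hj⟩ := hshift g hg
    rw [map_add, map_add] at hge
    have h2 : ∀ m, π m (ρ a x) + π m (ρ a y) = π m (ρ g x) + π m (ρ g y) := fun m => by
      rw [← hπadd, ← hπadd, hge]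
    have hd : σ a i ≠ σ a (i + 1) := fun h0 =>
      (one_ne_zero (α := ZMod p)) (add_eq_left.1 (hσinj a h0).symm)
    have hloc : ∀ m, π m (ρ g x) + π m (ρ g y) ≠ 0 → m = i + j ∨ m = i + 1 + j := by
      intro m hm
      by_contra hcon
      push Not at hcon
      exact hm (by rw [hπne _ m _ (hj i x hxf) hcon.1, hπne _ m _ (hj (i + 1) y hyf) hcon.2, add_zero])
    have h1 : σ a i = i + j ∨ σ a i = i + 1 + j := by
      refine hloc _ ?_
      rw [← h2, hπid _ _ (hσ a i x hxf), hπne _ _ _ (hσ a (i + 1) y hyf) hd, add_zero]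
      exact hne' a x hx
    have h1' : σ a (i + 1) = i + j ∨ σ a (i + 1) = i + 1 + j := by
      refine hloc _ ?_
      rw [← h2, hπne _ _ _ (hσ a i x hxf) (Ne.symm hd), hπid _ _ (hσ a (i + 1) y hyf), zero_add]
      exact hne' a y hy
    rcases h1 with h1 | h1 <;> rcases h1' with h1' | h1'
    · exact absurd (h1.trans h1'.symm) hd
    · left; rw [h1, h1']; ring
    · right; rw [h1, h1']; ring
    · exact absurd (h1.trans h1'.symm) hd
  have haff : ∀ a i, σ a i = σ a 0 + (σ a 1 - σ a 0) * i := by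
    intro a
    have hd : ∀ n : ℕ, σ a ((n : ZMod p) + 1) - σ a n = σ a 1 - σ a 0 := by
      intro n
      induction n with
      | zero => simp
      | succ n ih =>
        push_cast
        rw [← ih]
        have h1 := hadj a (n : ZMod p)
        have h2 := hadj a ((n : ZMod p) + 1)
        by_contra hne
        have h3 : σ a ((n : ZMod p) + 1 + 1) = σ a n := by
          rcases h1 with h1 | h1 <;> rcases h2 with h2 | h2
          · exact absurd (h2.trans h1.symm) hne
          · linear_combination h1 + h2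
          · linear_combination h1 + h2
          · exact absurd (h2.trans h1.symm) hne
        have h4 := hσinj a h3
        have h2' : (1 : ZMod p) = -1 := by linear_combination h4
        rw [← h2', or_self] at h1 h2
        exact hne (h2.trans h1.symm)
    have hn : ∀ n : ℕ, σ a n = σ a 0 + (σ a 1 - σ a 0) * n := by
      intro n
      induction n with
      | zero => simp
      | succ n ih => push_cast; linear_combination hd n + ih
    intro i
    conv_lhs => rw [← ZMod.natCast_zmod_val i]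
    rw [hn, ZMod.natCast_zmod_val]
  let E : A →* ZMod p :=
    { toFun := fun a => σ a 1 - σ a 0
      map_one' := by rw [hσone, hσone, sub_zero]
      map_mul' := fun a b => by rw [hσmul, hσmul, haff a (σ b 1), haff a (σ b 0)]; ring }
  have hE : ∀ a, σ a 1 - σ a 0 = 1 := fun a =>
    congrArg Units.val (hom_eq_one hperf E.toHomUnits a)
  let T : A →* Multiplicative (ZMod p) :=
    { toFun := fun a => Multiplicative.ofAdd (σ a 0)
      map_one' := by rw [hσone]; rfl
      map_mul' := fun a b => by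
        rw [← ofAdd_add, hσmul, haff a (σ b 0), hE, one_mul] }
  have hT : ∀ a, σ a 0 = 0 := fun a => congrArg Multiplicative.toAdd (hom_eq_one hperf T a)
  refine hj₀ ?_
  have h0 := hσeq g₀ 0 (0 + j₀) fun v hv => hg₀j 0 v hv
  rw [hT, zero_add] at h0
  exact h0.symm

end Cfsg.Agent.Lib.OrbitPowers
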