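import Mathlib
import Cfsg.Agent.S0675
import Cfsg.Agent.S3972
import Cfsg.Agent.Lib.Cores.Basic
import Cfsg.Agent.Lib.Cores.MinNormal
import Cfsg.Agent.Lib.FpfLinear.Perfect
import Cfsg.Agent.Lib.OrbitPowers.Basic

/-!
# Orbits of prime power size: the case of a cyclic Sylow subgroup

The action on the cosets of a stabilizer is doubly transitive (Burnside, Schur), and then the only
linear relation between the vectors of an orbit is their sum, which gives an orbit of size
`n (n - 1) / 2`.
-/

set_option autoImplicit false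

namespace Cfsg.Agent.Lib.OrbitPowers

open Subgroup

universe u w

variable {A : Type w} [Group A] [Finite A] {q p : ℕ} [hq : Fact q.Prime] [hp : Fact p.Prime]
  {V : Type u} [AddCommGroup V] [Module (ZMod q) V] {ρ : A →* Module.End (ZMod q) V}

omit hq in
theorem subsingleton_of_perfect_solvable (hperf : commutator A = ⊤) (hs : Group.IsSolvable A) :
    Subsingleton A :=
  haveI := hs
  FpfLinear.Perfect.subsingleton_of_perfect hperf

/-- In a perfect group with cyclic Sylow `p`-subgroup there is no nontrivial normal `p`-subgroup. -/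
theorem eq_bot_of_cyclic (hperf : commutator A = ⊤) (P : Sylow p A) [IsCyclic (P : Subgroup A)]
    {N : Subgroup A} [N.Normal] (hN : IsPGroup p N) : N = ⊥ := by
  have hNP : N ≤ (P : Subgroup A) := (Cores.le_pCore hN).trans (Cores.pCore_le_sylow P)
  haveI : IsCyclic N := Subgroup.isCyclic_of_le hNP
  have hcomm : ∀ x y : MulAut N, x * y = y * x := fun x y =>
    (IsCyclic.mulAutMulEquiv N).injective (by rw [map_mul, map_mul, mul_comm])
  letI : CommGroup (MulAut N) :=
    { (inferInstance : Group (MulAut N)) with mul_comm := hcomm }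
  refine (eq_bot_iff_forall _).2 fun z hz => ?_
  have hcen : ∀ g : A, g * z * g⁻¹ = z := fun g =>
    congrArg Subtype.val (MulEquiv.ext_iff.1 (hom_eq_one hperf (MulAut.conjNormal (H := N)) g) ⟨z, hz⟩)
  letI : CommGroup (P : Subgroup A) := IsCyclic.commGroup
  have key : ∀ (k : ℕ) (g₀ : A), g₀⁻¹ * z ^ k * g₀ ∈ (P : Subgroup A) →
      g₀⁻¹ * z ^ k * g₀ = z ^ k := by
    intro k g₀ _
    have hc : Commute g₀ z := mul_inv_eq_iff_eq_mul.1 (hcen g₀)
    rw [mul_assoc, ← (hc.pow_right k).eq, inv_mul_cancel_left]
  have h1 := MonoidHom.transfer_eq_pow (MonoidHom.id (P : Subgroup A)) z key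
  rw [hom_eq_one hperf] at h1
  have h2 : z ^ (P : Subgroup A).index = 1 := (congrArg Subtype.val h1).symm
  obtain ⟨k, hk⟩ := hN ⟨z, hz⟩
  have hk' : z ^ p ^ k = 1 := congrArg Subtype.val hk
  have h3 : orderOf z = 1 := Nat.eq_one_of_dvd_coprimes
    (((hp.out.coprime_iff_not_dvd).2 P.not_dvd_index).pow_left k)
    (orderOf_dvd_of_pow_eq_one hk') (orderOf_dvd_of_pow_eq_one h2)
  exact orderOf_eq_one_iff.1 h3

/-- A Sylow subgroup acting fixed-point-freely meets a stabilizer trivially and is a transversal. -/
theorem card_quotient_fixer (h : Good p ρ) (P : Sylow p A)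
    (hfpf : ∀ g ∈ (P : Subgroup A), g ≠ 1 → ∀ v, ρ g v = v → v = 0) {v : V} (hv : v ≠ 0) :
    Function.Bijective (fun g : (P : Subgroup A) => ((g : A) : A ⧸ fixer ρ v)) := by
  constructor
  · intro g g' hgg
    have h1 : ((g : A)⁻¹ * g' : A) ∈ fixer ρ v := (QuotientGroup.eq).1 hgg
    have h2 : (g : A)⁻¹ * g' = 1 := by
      by_contra hne
      exact hv (hfpf _ ((P : Subgroup A).mul_mem ((P : Subgroup A).inv_mem g.2) g'.2) hne v h1)
    exact Subtype.ext (inv_mul_eq_one.1 h2)
  · intro x
    obtain ⟨a, rfl⟩ := QuotientGroup.mk_surjective x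
    obtain ⟨g, hg, hge⟩ := exists_sylow_apply h P a v
    refine ⟨⟨g, hg⟩, (QuotientGroup.eq).2 ?_⟩
    show ρ (g⁻¹ * a) v = v
    rw [map_mul, Module.End.mul_apply, hge, inv_apply_self]

open scoped Classical in
theorem false_of_cyclic (h : Good p ρ) (hperf : commutator A = ⊤) [Nontrivial A]
    (hsimple : ∀ N : Subgroup A, N.Normal → N = ⊥ ∨ N = ⊤) (P : Sylow p A)
    [IsCyclic (P : Subgroup A)] (hP1 : (P : Subgroup A) ≠ ⊥) (hp2 : p ≠ 2)
    (hfpf : ∀ g ∈ (P : Subgroup A), g ≠ 1 → ∀ v, ρ g v = v → v = 0) [Nontrivial V] : False := by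
  obtain ⟨v, hv⟩ := exists_ne (0 : V)
  set H := fixer ρ v with hH
  have hbij := card_quotient_fixer h P hfpf hv
  have hHP : ∀ g ∈ (P : Subgroup A), g ∈ H → g = 1 := fun g hg hgH => by
    by_contra hne; exact hv (hfpf g hg hne v hgH)
  have hHtop : H ≠ ⊤ := fun htop => hP1 ((eq_bot_iff_forall _).2 fun g hg => hHP g hg (htop ▸ mem_top g))
  -- `H` is maximal
  obtain ⟨M, hM, hHM⟩ := (eq_top_or_exists_le_coatom H).resolve_left hHtop
  have hcover : ∀ a : A, ∃ g ∈ (P : Subgroup A), g⁻¹ * a ∈ H := fun a => by
    obtain ⟨g, hg, hge⟩ := exists_sylow_apply h P a v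
    refine ⟨g, hg, ?_⟩
    show ρ (g⁻¹ * a) v = v
    rw [map_mul, Module.End.mul_apply, hge, inv_apply_self]
  letI : CommGroup (P : Subgroup A) := IsCyclic.commGroup
  have hMP : ∀ x ∈ (P : Subgroup A), x ∈ M → x = 1 := by
    intro x hxP hxM
    have hle : normalClosure ({x} : Set A) ≤ M := by
      refine (closure_le _).2 fun y hy => ?_
      obtain ⟨b, hb, hconj⟩ := Group.mem_conjugatesOfSet_iff.1 hy
      rw [Set.mem_singleton_iff] at hb
      subst hb
      obtain ⟨g, rfl⟩ := isConj_iff.1 hconj
      obtain ⟨u, hu, hug⟩ := hcover g⁻¹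
      have hm : g * u ∈ M := by
        have := M.inv_mem (hHM hug)
        rwa [mul_inv_rev, inv_inv, inv_inv] at this
      have hcomm : u * b = b * u :=
        congrArg Subtype.val (mul_comm (⟨u, hu⟩ : (P : Subgroup A)) ⟨b, hxP⟩)
      have e : g * b * g⁻¹ = g * u * b * (g * u)⁻¹ := by
        rw [show g * u * b * (g * u)⁻¹ = g * (u * b) * u⁻¹ * g⁻¹ by group, hcomm]; group
      rw [e]
      exact M.mul_mem (M.mul_mem hm hxM) (M.inv_mem hm)
    rcases hsimple (normalClosure ({x} : Set A)) normalClosure_normal with h0 | h0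
    · exact mem_bot.1 (h0 ▸ subset_normalClosure rfl)
    · rw [h0] at hle; exact absurd (top_le_iff.1 hle) hM.1
  have hMH : M = H := by
    refine le_antisymm (fun m hm => ?_) hHM
    obtain ⟨g, hg, hgm⟩ := hcover m
    have : g ∈ M := by
      have := M.mul_mem hm (M.inv_mem (hHM hgm))
      rwa [mul_inv_rev, inv_inv, mul_inv_cancel_left] at this
    rwa [hMP g hg this, inv_one, one_mul] at hgm
  subst hMH
  -- the permutation group on the cosets
  set Ω := A ⧸ H with hΩ
  haveI : Fintype Ω := Fintype.ofFinite Ω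
  obtain ⟨k, hk⟩ := IsPGroup.iff_card.1 P.2
  have hcard : Fintype.card Ω = p ^ k := by
    rw [← Nat.card_eq_fintype_card, ← hk]
    exact (Nat.card_congr (Equiv.ofBijective _ hbij)).symm
  have hk1 : 1 ≤ k := by
    by_contra hk0
    rw [show k = 0 by omega, pow_zero, card_eq_one] at hk
    exact hP1 hk
  haveI : Nontrivial Ω := by
    rw [← Fintype.one_lt_card_iff_nontrivial, hcard]
    exact Nat.one_lt_pow (by omega) hp.out.one_lt
  haveI hprim : MulAction.IsPreprimitive A Ω :=
    (MulAction.isCoatom_stabilizer_iff_preprimitive A ((1 : A) : Ω)).1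
      (by rw [MulAction.stabilizer_quotient]; exact hM)
  set toP := MulAction.toPermHom A Ω with htoP
  have hinj : Function.Injective toP := by
    rw [← MonoidHom.ker_eq_bot_iff, htoP, ← normalCore_eq_ker]
    exact (hsimple _ (normalCore_normal H)).resolve_right fun h0 =>
      hHtop (top_le_iff.1 (h0 ▸ normalCore_le H))
  set G := toP.range with hG
  haveI hprimG : MulAction.IsPreprimitive G Ω := by
    let f : Ω →ₑ[toP.rangeRestrict] Ω := { toFun := id, map_smul' := fun _ _ => rfl }
    exact (MulAction.isPreprimitive_congr (f := f) toP.rangeRestrict_surjective Function.bijective_id).1 hprim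
  have hns : ¬Group.IsSolvable G := fun hs => by
    haveI := hs
    have := subsingleton_of_perfect_solvable hperf
      (Group.isSolvable_of_isSolvable_injective (f := toP.rangeRestrict)
        fun a b hab => hinj (congrArg Subtype.val hab))
    exact not_subsingleton A this
  have h2t : MulAction.IsMultiplyPretransitive G Ω 2 := by
    rcases (show k = 1 ∨ 2 ≤ k by omega) with rfl | hk2
    · refine (S0675.result ?_ G).resolve_left hns
      rw [hcard, pow_one]; exact hp.out
    · by_contra h2
      obtain ⟨g, hg⟩ := IsCyclic.exists_generator (α := (P : Subgroup A))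
      refine (S3972.result p k hp.out hk2 hcard G inferInstance h2 (toP.rangeRestrict (g : A)) ?_).1 hprimG
      rw [orderOf_injective toP.rangeRestrict (fun a b hab => hinj (congrArg Subtype.val hab)),
        Subgroup.orderOf_coe, orderOf_eq_card_of_forall_mem_zpowers hg, hk]
  rw [MulAction.is_two_pretransitive_iff] at h2t
  have h2A : ∀ {a b c d : Ω}, a ≠ b → c ≠ d → ∃ g : A, g • a = c ∧ g • b = d := by
    intro a b c d hab hcd
    obtain ⟨⟨_, g, rfl⟩, h1, h2⟩ := h2t hab hcd
    exact ⟨g, h1, h2⟩
  -- the orbit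
  let e : Ω → V := fun x => Quotient.liftOn' x (fun a => ρ a v) fun a b hab => by
    have : ρ (a⁻¹ * b) v = v := (QuotientGroup.leftRel_apply).1 hab
    calc ρ a v = ρ a (ρ (a⁻¹ * b) v) := by rw [this]
      _ = ρ b v := by rw [← Module.End.mul_apply, ← map_mul, mul_inv_cancel_left]
  have he : ∀ (a : A) (x : Ω), e (a • x) = ρ a (e x) := by
    intro a x
    obtain ⟨b, rfl⟩ := QuotientGroup.mk_surjective x
    show ρ (a * b) v = ρ a (ρ b v)
    rw [map_mul]; rfl
  have he1 : e ((1 : A) : Ω) = v := by show ρ 1 v = v; rw [map_one]; rfl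
  have hsum : ∑ x, e x = 0 := by
    obtain ⟨g, hgP, hg1⟩ : ∃ g ∈ (P : Subgroup A), g ≠ 1 := by
      by_contra hcon
      push Not at hcon
      exact hP1 ((eq_bot_iff_forall _).2 hcon)
    refine hfpf g hgP hg1 _ ?_
    rw [map_sum]
    simp only [← he]
    exact Equiv.sum_comp (MulAction.toPerm g) e
  have hne : ∀ x, e x ≠ 0 := by
    intro x hx
    obtain ⟨b, rfl⟩ := QuotientGroup.mk_surjective x
    refine hv ?_
    rw [← inv_apply_self (ρ := ρ) b v, show ρ b v = 0 from hx, map_zero]
  have hcoe : ∀ m : ℕ, ¬q ∣ m → (m : ZMod q) ≠ 0 := fun m hm h0 =>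
    hm ((ZMod.natCast_eq_zero_iff m q).1 h0)
  have hnΩ : (Fintype.card Ω : ZMod q) ≠ 0 := hcoe _ fun hd => h.cop (hd.trans (by
    rw [hcard, ← hk]; exact card_subgroup_dvd_card _))
  -- constants are the only relations
  haveI : Fintype A := Fintype.ofFinite A
  have hrel : ∀ f : Ω → ZMod q, ∑ x, f x • e x = 0 → ∀ x y, f x = f y := by
    intro f hf
    have key : ∀ x, (Fintype.card Ω : ZMod q) * f x = ∑ y, f y := by
      intro x
      let S : Finset A := Finset.univ.filter fun a => a • x = x
      have hS : (S.card : ZMod q) ≠ 0 := by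
        refine hcoe _ fun hd => h.cop (hd.trans ?_)
        have : S.card = Nat.card (MulAction.stabilizer A x) := by
          rw [Nat.card_eq_fintype_card, Fintype.card_subtype]
          exact congrArg Finset.card (Finset.filter_congr fun a _ => Iff.rfl)
        rw [this]; exact card_subgroup_dvd_card _
      let g : Ω → ZMod q := fun y => ∑ a ∈ S, f (a⁻¹ • y)
      have hg : ∑ y, g y • e y = 0 := by
        simp only [g, Finset.sum_smul]
        rw [Finset.sum_comm]
        refine Finset.sum_eq_zero fun a _ => ?_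
        rw [← Equiv.sum_comp (MulAction.toPerm a) fun y => f (a⁻¹ • y) • e y]
        simp only [MulAction.toPerm_apply, inv_smul_smul, he, ← map_smul, ← map_sum, hf, map_zero]
      have hgx : g x = (S.card : ZMod q) * f x := by
        simp only [g]
        rw [Finset.sum_congr rfl fun a ha => (by
          rw [inv_smul_eq_iff.2 (Finset.mem_filter.1 ha).2.symm] : f (a⁻¹ • x) = f x),
          Finset.sum_const, nsmul_eq_mul]
      have hgsum : ∑ y, g y = (S.card : ZMod q) * ∑ y, f y := by
        simp only [g]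
        rw [Finset.sum_comm, Finset.sum_congr rfl fun a _ =>
          (Equiv.sum_comp (MulAction.toPerm a⁻¹) f : ∑ y, f (a⁻¹ • y) = ∑ y, f y),
          Finset.sum_const, nsmul_eq_mul]
      have hinv : ∀ b ∈ S, ∀ y, g (b • y) = g y := by
        intro b hb y
        simp only [S, Finset.mem_filter, Finset.mem_univ, true_and] at hb
        simp only [g]
        refine Finset.sum_nbij' (fun a => b⁻¹ * a) (fun a => b * a) ?_ ?_ ?_ ?_ ?_
        · intro a ha
          rw [Finset.mem_filter] at ha ⊢
          refine ⟨Finset.mem_univ _, ?_⟩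
          rw [mul_smul, ha.2, inv_smul_eq_iff, hb]
        · intro a ha
          rw [Finset.mem_filter] at ha ⊢
          refine ⟨Finset.mem_univ _, ?_⟩
          rw [mul_smul, ha.2, hb]
        · intro a _; simp
        · intro a _; simp
        · intro a _
          rw [mul_inv_rev, inv_inv, mul_smul]
      obtain ⟨y₀, hy₀⟩ := exists_ne x
      have hconst : ∀ y, y ≠ x → g y = g y₀ := by
        intro y hy
        obtain ⟨b, hb1, hb2⟩ := h2A (Ne.symm hy₀) (Ne.symm hy)
        rw [← hb2, hinv b (Finset.mem_filter.2 ⟨Finset.mem_univ _, hb1⟩)]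
      have hcsum : ∀ (α : V), ∑ y, (if y = x then α else 0) = α := fun α => by
        rw [Finset.sum_eq_single x (fun y _ hyx => if_neg hyx) (fun h0 => absurd (Finset.mem_univ x) h0),
          if_pos rfl]
      have hgy : g x = g y₀ := by
        have h1 : ∀ y, g y • e y = g y₀ • e y + (if y = x then (g x - g y₀) • e x else 0) := by
          intro y
          by_cases hy : y = x
          · subst hy; rw [if_pos rfl, ← add_smul, add_sub_cancel]
          · rw [if_neg hy, add_zero, hconst y hy]
        rw [Finset.sum_congr rfl fun y _ => h1 y, Finset.sum_add_distrib, ← Finset.smul_sum, hsum,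
          smul_zero, zero_add, hcsum] at hg
        exact sub_eq_zero.1 ((smul_eq_zero.1 hg).resolve_right (hne x))
      have hgc : ∀ y, g y = g x := fun y => by
        by_cases hy : y = x
        · rw [hy]
        · rw [hconst y hy, hgy]
      rw [Finset.sum_congr rfl fun y _ => hgc y, Finset.sum_const, Finset.card_univ, nsmul_eq_mul,
        hgx] at hgsum
      exact mul_left_cancel₀ hS (by rw [← hgsum]; ring)
    intro x y
    exact mul_left_cancel₀ hnΩ ((key x).trans (key y).symm)
  -- small cases
  have h5 : 5 ≤ Fintype.card Ω := by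
    have hodd : Odd (p ^ k) := (hp.out.odd_of_ne_two hp2).pow
    have h3 : 3 ≤ p ^ k := by
      have := hp.out.two_le
      calc 3 ≤ p := by omega
        _ ≤ p ^ k := Nat.le_self_pow (by omega) p
    by_contra hlt
    haveI : Group.IsSolvable (Equiv.Perm Ω) := FpfLinear.Perfect.solvable_perm_le_four
      (by rw [Nat.card_eq_fintype_card]; omega)
    exact hns inferInstance
  -- the pair orbit
  have hdelta : ∀ a : Ω, ∑ z, (if z = a then (1 : ZMod q) else 0) • e z = e a := fun a => by
    rw [Finset.sum_eq_single a (fun y _ hya => by rw [if_neg hya, zero_smul])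
      (fun h0 => absurd (Finset.mem_univ a) h0), if_pos rfl, one_smul]
  obtain ⟨y, hy⟩ := exists_ne ((1 : A) : Ω)
  set x₀ : Ω := ((1 : A) : Ω) with hx₀
  set K := fixer ρ (e x₀ + e y) with hK
  have hperm : ∀ a ∈ K, a • x₀ = x₀ ∨ a • x₀ = y := by
    intro a ha
    have ha' : e (a • x₀) + e (a • y) = e x₀ + e y := by
      rw [he, he, ← map_add]; exact ha
    have hay : a • x₀ ≠ a • y := fun h0 => hy ((MulAction.injective a) h0).symm
    by_contra hcon
    push Not at hcon
    let f : Ω → ZMod q := fun z => (if z = a • x₀ then 1 else 0) + (if z = a • y then 1 else 0)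
      - ((if z = x₀ then 1 else 0) + (if z = y then 1 else 0))
    have hf : ∑ z, f z • e z = 0 := by
      simp only [f, sub_smul, add_smul, Finset.sum_sub_distrib, Finset.sum_add_distrib, hdelta]
      rw [ha', sub_self]
    obtain ⟨z, hz⟩ : ∃ z, z ∉ ({a • x₀, a • y, x₀, y} : Finset Ω) := by
      by_contra hcon'
      push Not at hcon'
      have := Finset.card_le_card (fun z (_ : z ∈ Finset.univ) => hcon' z)
      have h4 := this.trans ((Finset.card_insert_le _ _).trans (add_le_add_left
        ((Finset.card_insert_le _ _).trans (add_le_add_left (Finset.card_insert_le _ _) 1)) 1))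
      rw [Finset.card_univ, Finset.card_singleton] at h4
      omega
    simp only [Finset.mem_insert, Finset.mem_singleton, not_or] at hz
    have h1 := hrel f hf (a • x₀) z
    simp only [f, if_pos rfl, if_neg hay, if_neg hcon.1, if_neg hcon.2, if_neg hz.1, if_neg hz.2.1,
      if_neg hz.2.2.1, if_neg hz.2.2.2, add_zero, sub_zero] at h1
    exact one_ne_zero h1
  set T := MulAction.stabilizer A x₀ ⊓ MulAction.stabilizer A y with hT
  have hTK : T ≤ K := by
    rintro a ⟨h1, h2⟩
    show ρ a (e x₀ + e y) = e x₀ + e y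
    rw [map_add, ← he, ← he, MulAction.mem_stabilizer_iff.1 h1, MulAction.mem_stabilizer_iff.1 h2]
  have hrel2 : T.relIndex K ≤ 2 := by
    have hle : (MulAction.stabilizer A x₀).subgroupOf K ≤ T.subgroupOf K := by
      intro a ha
      have ha' : (a : A) • x₀ = x₀ := ha
      refine ⟨ha', ?_⟩
      have : e ((a : A) • x₀) + e ((a : A) • y) = e x₀ + e y := by
        rw [he, he, ← map_add]; exact a.2
      rw [ha', add_right_inj] at this
      show (a : A) • y = y
      by_contra hne'
      let f : Ω → ZMod q := fun z => (if z = (a : A) • y then 1 else 0) - (if z = y then 1 else 0)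
      have hf : ∑ z, f z • e z = 0 := by
        simp only [f, sub_smul, Finset.sum_sub_distrib, hdelta]
        rw [this, sub_self]
      have hax : (a : A) • y ≠ x₀ := fun h0 => hy (MulAction.injective (a : A) (h0.trans ha'.symm))
      have h1 := hrel f hf ((a : A) • y) x₀
      simp only [f, if_pos rfl, if_neg hne', if_neg (Ne.symm hax), if_neg (Ne.symm hy), sub_zero] at h1
      exact one_ne_zero h1
    have h2 : ((MulAction.stabilizer A x₀).subgroupOf K).index ≤ 2 := by
      rw [show (MulAction.stabilizer A x₀).subgroupOf K = MulAction.stabilizer K x₀ from rfl,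
        MulAction.index_stabilizer]
      refine (Set.ncard_le_ncard (t := {x₀, y}) ?_ (Set.toFinite _)).trans (Set.ncard_pair (Ne.symm hy)).le
      rintro _ ⟨a, rfl⟩
      exact hperm a a.2
    exact (Nat.le_of_dvd (Nat.pos_of_ne_zero index_ne_zero_of_finite) (index_dvd_of_le hle)).trans h2
  have hTindex : T.index = p ^ k * (p ^ k - 1) := by
    have h1 : (MulAction.stabilizer A x₀).index = p ^ k := by
      rw [MulAction.index_stabilizer_of_transitive, Nat.card_eq_fintype_card, hcard]
    have h2 : T.relIndex (MulAction.stabilizer A x₀) = p ^ k - 1 := by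
      rw [hT, inf_relIndex_left, relIndex, show (MulAction.stabilizer A y).subgroupOf
        (MulAction.stabilizer A x₀) = MulAction.stabilizer (MulAction.stabilizer A x₀) y from rfl,
        MulAction.index_stabilizer]
      have horb : MulAction.orbit (MulAction.stabilizer A x₀) y = {x₀}ᶜ := by
        ext z
        constructor
        · rintro ⟨a, rfl⟩
          intro h0
          exact hy (MulAction.injective (a : A) ((show (a : A) • y = x₀ from h0).trans
            (show (a : A) • x₀ = x₀ from a.2).symm))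
        · intro hz
          obtain ⟨a, ha1, ha2⟩ := h2A (Ne.symm hy) (show x₀ ≠ z from fun h0 => hz h0.symm)
          exact ⟨⟨a, ha1⟩, ha2⟩
      rw [horb, Set.ncard_compl, Set.ncard_singleton, Nat.card_eq_fintype_card, hcard]
    rw [← relIndex_mul_index (inf_le_left : T ≤ MulAction.stabilizer A x₀), h2, h1, mul_comm]
  obtain ⟨j, hj⟩ := h.orb (e x₀ + e y)
  have h6 := relIndex_mul_index hTK
  rw [hTindex, hj] at h6
  have hdvd : p ^ k - 1 ∣ T.relIndex K := by
    have h8 : p ^ k - 1 ∣ T.relIndex K * p ^ j := by rw [h6]; exact dvd_mul_left _ _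
    refine (Nat.Coprime.pow_right j ?_).dvd_of_dvd_mul_right h8
    refine ((hp.out.coprime_iff_not_dvd).2 fun hd => ?_).symm
    have : p ∣ p ^ k := dvd_pow_self p (by omega)
    have h7 := Nat.dvd_sub this hd
    rw [Nat.sub_sub_self (Nat.one_le_pow _ _ hp.out.pos)] at h7
    exact hp.out.ne_one (Nat.dvd_one.1 h7)
  have hTK0 : 0 < T.relIndex K := Nat.pos_of_ne_zero index_ne_zero_of_finite
  have := Nat.le_of_dvd hTK0 hdvd
  rw [hcard] at h5
  omega

end Cfsg.Agent.Lib.OrbitPowers
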