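import Mathlib
import Cfsg.Agent.Lib.Induced.Burnside
import Cfsg.Agent.Lib.OrbitPowers.OddCase

/-!
# Orbits of 2-power size, the Sylow 2-subgroup acting fixed-point-freely

An element outside the Sylow subgroup splits `V` into fewer than `|P|` pieces, so `|V| < |P| ^ 2`;
as `|P|` divides `|V| - 1` this leaves dimension two and `q = 3`, dimension four.
-/

set_option autoImplicit false

namespace Cfsg.Agent.Lib.OrbitPowers

open Subgroup

universe u w

theorem geom_two_pow_le {q : ℕ} (hq : Odd q) (hq3 : 3 ≤ q) :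
    ∀ e : ℕ, 0 < e → ∀ n : ℕ, 2 ^ n ∣ q ^ (2 * e) - 1 → 2 ^ n ≤ e * (q ^ 2 - 1) := by
  intro e
  induction e using Nat.strong_induction_on with
  | _ e ih =>
  intro he n hn
  rcases Nat.even_or_odd e with ⟨f, rfl⟩ | hodd
  · have hf : 0 < f := by omega
    rcases n with _ | n
    · simp only [pow_zero]
      have : 1 ≤ q ^ 2 - 1 := by
        have : 9 ≤ q ^ 2 := by nlinarith
        omega
      nlinarith
    have h1 : q ^ (2 * (f + f)) - 1 = (q ^ (2 * f) + 1) * (q ^ (2 * f) - 1) := by
      rw [← Nat.sq_sub_sq (q ^ (2 * f)) 1, ← pow_mul]; congr 1; ring_nf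
    have h2 : ∃ o, Odd o ∧ q ^ (2 * f) + 1 = 2 * o := by
      obtain ⟨c, hc⟩ : Odd (q ^ f) := hq.pow
      refine ⟨2 * c * c + 2 * c + 1, ⟨c * c + c, by ring⟩, ?_⟩
      rw [show q ^ (2 * f) = (q ^ f) ^ 2 by ring, hc]; ring
    obtain ⟨o, ho, ho'⟩ := h2
    rw [h1, ho', mul_assoc, pow_succ'] at hn
    have h3 := ((Nat.coprime_two_right.2 ho).symm.pow_left n).dvd_of_dvd_mul_left
      (Nat.dvd_of_mul_dvd_mul_left (by norm_num) hn)
    have h4 := ih f (by omega) hf n h3
    rw [pow_succ']
    calc 2 * 2 ^ n ≤ 2 * (f * (q ^ 2 - 1)) := Nat.mul_le_mul_left 2 h4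
      _ = (f + f) * (q ^ 2 - 1) := by ring
  · have h1 : q ^ (2 * e) - 1 = (∑ i ∈ Finset.range e, (q ^ 2) ^ i) * (q ^ 2 - 1) := by
      have h2 := geom_sum_mul_add (q ^ 2 - 1) e
      rw [Nat.sub_add_cancel (Nat.one_le_pow _ _ (by omega)), ← pow_mul] at h2
      omega
    have hsum : Odd (∑ i ∈ Finset.range e, (q ^ 2) ^ i) := by
      rw [Finset.odd_sum_iff_odd_card_odd, Finset.filter_true_of_mem fun i _ => hq.pow.pow,
        Finset.card_range]
      exact hodd
    rw [h1] at hn
    have h3 := ((Nat.coprime_two_right.2 hsum).symm.pow_left n).dvd_of_dvd_mul_left hn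
    refine (Nat.le_of_dvd ?_ h3).trans (Nat.le_mul_of_pos_left _ he)
    have : 9 ≤ q ^ 2 := by nlinarith
    omega

/-- `2 ^ n ∣ q ^ (2 e) - 1` and `q ^ e < 2 ^ n` leave `e = 1` or `q = 3`, `e = 2`. -/
theorem exceptional {q e n : ℕ} (hq : Odd q) (hq3 : 3 ≤ q) (he : 0 < e)
    (hn : 2 ^ n ∣ q ^ (2 * e) - 1) (hlt : q ^ e < 2 ^ n) : e = 1 ∨ (q = 3 ∧ e = 2) := by
  have hle := geom_two_pow_le hq hq3 e he n hn
  have hq9 : 9 ≤ q ^ 2 := by nlinarith
  rcases (show e = 1 ∨ e = 2 ∨ 3 ≤ e by omega) with rfl | rfl | h3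
  · exact Or.inl rfl
  · refine Or.inr ⟨?_, rfl⟩
    rcases n with _ | n
    · simp at hlt; omega
    have h1 : q ^ (2 * 2) - 1 = (q ^ 2 + 1) * (q ^ 2 - 1) := by
      rw [← Nat.sq_sub_sq (q ^ 2) 1, ← pow_mul]
    obtain ⟨c, hc⟩ := hq
    have ho : q ^ 2 + 1 = 2 * (2 * (c * c + c) + 1) := by rw [hc]; ring
    rw [h1, ho, mul_assoc, pow_succ'] at hn
    have h3 := ((Nat.coprime_two_right.2 ⟨c * c + c, rfl⟩).symm.pow_left n).dvd_of_dvd_mul_left
      (Nat.dvd_of_mul_dvd_mul_left (by norm_num) hn)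
    -- `q ^ 2 - 1` is a power of two, and it is `(q - 1) (q + 1)`
    rw [pow_succ' 2] at hlt
    obtain ⟨t, ht⟩ := h3
    have ht1 : t = 1 := by
      rcases t with _ | _ | t
      · omega
      · rfl
      · exfalso; nlinarith [Nat.sub_add_cancel (show 1 ≤ q ^ 2 by omega)]
    subst ht1
    rw [mul_one] at ht
    have h4 : q ^ 2 - 1 = (q + 1) * (q - 1) := by rw [← Nat.sq_sub_sq q 1]
    obtain ⟨a, -, ha⟩ := (Nat.dvd_prime_pow Nat.prime_two).1 (ht ▸ h4 ▸ dvd_mul_right _ _ : q + 1 ∣ 2 ^ n)
    obtain ⟨b, -, hb⟩ := (Nat.dvd_prime_pow Nat.prime_two).1 (ht ▸ h4 ▸ dvd_mul_left _ _ : q - 1 ∣ 2 ^ n)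
    rcases b with _ | _ | b
    · simp at hb; omega
    · simp at hb; omega
    · exfalso
      have h4a : (4 : ℕ) ∣ q - 1 := hb ▸ (pow_dvd_pow 2 (by omega : 2 ≤ b + 1 + 1))
      have h4b : (4 : ℕ) ∣ q + 1 := by
        rcases a with _ | _ | a
        · simp at ha; omega
        · simp at ha; omega
        · exact ha ▸ (pow_dvd_pow 2 (by omega : 2 ≤ a + 1 + 1))
      omega
  · exfalso
    have h1 : e * q ^ 2 ≤ q ^ e := by
      obtain ⟨d, rfl⟩ := Nat.exists_eq_add_of_le h3
      have h2 : ∀ d : ℕ, 3 + d ≤ q ^ (1 + d) := by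
        intro d
        induction d with
        | zero => simpa using hq3
        | succ d ih =>
          rw [← add_assoc, ← add_assoc, pow_succ]
          nlinarith [Nat.one_le_pow (1 + d) q (by omega)]
      calc (3 + d) * q ^ 2 ≤ q ^ (1 + d) * q ^ 2 := Nat.mul_le_mul_right _ (h2 d)
        _ = q ^ (3 + d) := by rw [← pow_add]; congr 1; omega
    have h2 : e * (q ^ 2 - 1) ≤ e * q ^ 2 := Nat.mul_le_mul_left _ (Nat.sub_le _ _)
    omega

variable {A : Type w} [Group A] [Finite A] {q : ℕ} [hq : Fact q.Prime]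
  {V : Type u} [AddCommGroup V] [Module (ZMod q) V] [Finite V] {ρ : A →* Module.End (ZMod q) V}

open scoped Classical in
theorem card_lt_sq (h : Good 2 ρ) (P : Sylow 2 A)
    (hfpf : ∀ g ∈ (P : Subgroup A), g ≠ 1 → ∀ v, ρ g v = v → v = 0) {a : A}
    (ha : a ∉ (P : Subgroup A)) : Nat.card V < Nat.card (P : Subgroup A) ^ 2 := by
  set W : ↥(P : Subgroup A) → Submodule (ZMod q) V := fun g => LinearMap.ker (ρ a - ρ g) with hW
  have hmem : ∀ g x, x ∈ W g ↔ ρ a x = ρ (g : A) x := fun g x => by
    rw [hW, LinearMap.mem_ker, LinearMap.sub_apply, sub_eq_zero]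
  have hcov : ∀ x, ∃ g, x ∈ W g := fun x => by
    obtain ⟨g, hg, hge⟩ := exists_sylow_apply h P a x
    exact ⟨⟨g, hg⟩, (hmem _ _).2 hge⟩
  have huniq : ∀ g g' x, x ≠ 0 → x ∈ W g → x ∈ W g' → g = g' := by
    intro g g' x hx h1 h2
    rw [hmem] at h1 h2
    by_contra hne
    refine hx (hfpf ((g : A)⁻¹ * g') ((P : Subgroup A).mul_mem ((P : Subgroup A).inv_mem g.2) g'.2)
      (fun h0 => hne (Subtype.ext (inv_mul_eq_one.1 h0))) x ?_)
    rw [map_mul, Module.End.mul_apply, ← h2, h1, inv_apply_self]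
  have hproper : ∀ g, ∃ x, x ∉ W g := fun g => by
    by_contra hcon
    push Not at hcon
    exact ha (h.inj (LinearMap.ext fun x => (hmem g x).1 (hcon x)) ▸ g.2)
  haveI := Fintype.ofFinite (P : Subgroup A)
  obtain ⟨g₀, -, hmax⟩ := Finset.exists_max_image Finset.univ (fun g => Nat.card (W g))
    ⟨1, Finset.mem_univ _⟩
  set D := Nat.card (W g₀) with hD
  set N := Nat.card (P : Subgroup A) with hN
  by_cases hbig : Nat.card V ≤ D * D
  · obtain ⟨x, hx⟩ := hproper g₀
    choose f hf using fun w : W g₀ => hcov (x + (w : V))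
    have hne : ∀ w, f w ≠ g₀ := fun w h0 => hx (by
      have := (W g₀).sub_mem (h0 ▸ hf w) w.2
      simpa using this)
    have hinj : Function.Injective f := by
      intro w w' hww
      by_contra hne'
      have h1 : ((w : V) - w') ∈ W (f w) := by
        have := (W (f w)).sub_mem (hf w) (hww ▸ hf w')
        simpa using this
      exact hne w (huniq _ _ _ (sub_ne_zero.2 fun h0 => hne' (Subtype.ext h0)) h1
        ((W g₀).sub_mem w.2 w'.2))
    have hlt : D < N := by
      refine lt_of_le_of_ne (Nat.card_le_card_of_injective f hinj) fun heq => ?_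
      obtain ⟨w, hw⟩ := (hinj.bijective_of_nat_card_le heq.ge).2 g₀
      exact hne w hw
    calc Nat.card V ≤ D * D := hbig
      _ < N * N := Nat.mul_lt_mul'' hlt hlt
      _ = N ^ 2 := (pow_two N).symm
  · choose f hf using hcov
    have hle : Nat.card V ≤ N * D := by
      have h1 : Nat.card V ≤ Nat.card (Σ g : (P : Subgroup A), W g) := by
        refine Nat.card_le_card_of_injective (fun x => ⟨f x, x, hf x⟩) fun x y hxy => ?_
        have := congrArg (fun s : Σ g : (P : Subgroup A), W g => (s.2 : V)) hxy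
        exact this
      refine h1.trans ?_
      rw [Nat.card_sigma]
      refine (Finset.sum_le_sum fun g hg => hmax g (Finset.mem_univ g)).trans ?_
      rw [Finset.sum_const, Finset.card_univ, hN, Nat.card_eq_fintype_card]; simp
    push Not at hbig
    have hNpos : 0 < N := Nat.card_pos
    have hVpos : 0 < Nat.card V := Nat.card_pos
    nlinarith

/-- The free action on the nonzero vectors. -/
theorem dvd_card_sub_one (P : Subgroup A) (hfpf : ∀ g ∈ P, g ≠ 1 → ∀ v, ρ g v = v → v = 0) :
    Nat.card P ∣ Nat.card V - 1 := by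
  classical
  letI : MulAction P {v : V // v ≠ 0} :=
    { smul := fun g v => ⟨ρ (g : A) v.1, fun h0 => v.2 (by
        rw [← inv_apply_self (ρ := ρ) (g : A) v.1, h0, map_zero])⟩
      one_smul := fun v => Subtype.ext (by show ρ ((1 : P) : A) v.1 = v.1; simp)
      mul_smul := fun g g' v => Subtype.ext (by
        show ρ ((g * g' : P) : A) v.1 = ρ (g : A) (ρ (g' : A) v.1)
        rw [Subgroup.coe_mul, map_mul]; rfl) }
  have hstab : ∀ v : {v : V // v ≠ 0}, MulAction.stabilizer P v = ⊥ := by
    intro v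
    refine (eq_bot_iff_forall _).2 fun g hg => ?_
    by_contra hne
    exact v.2 (hfpf g g.2 (fun h0 => hne (Subtype.ext h0)) v.1 (congrArg Subtype.val hg))
  have h1 := Nat.card_congr (MulAction.selfEquivOrbitsQuotientProd hstab)
  rw [Nat.card_prod] at h1
  haveI := Fintype.ofFinite V
  have h2 : Nat.card {v : V // v ≠ 0} = Nat.card V - 1 := by
    rw [Nat.card_eq_fintype_card, Nat.card_eq_fintype_card, Fintype.card_subtype_compl,
      Fintype.card_subtype_eq]
  exact h2 ▸ h1 ▸ dvd_mul_left _ _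

theorem false_of_two (h : Good 2 ρ) (hperf : commutator A = ⊤) [Nontrivial A] [Nontrivial V]
    (P : Sylow 2 A) (hfpf : ∀ g ∈ (P : Subgroup A), g ≠ 1 → ∀ v, ρ g v = v → v = 0)
    (hqA : q ≠ 2) {z : A} (hz : ρ z = -1) : False := by
  classical
  have hqodd : Odd q := hq.out.odd_of_ne_two hqA
  have hq3 : 3 ≤ q := by have := hq.out.two_le; omega
  obtain ⟨n, hn⟩ := IsPGroup.iff_card.1 P.2
  -- `P` is proper
  obtain ⟨a, ha⟩ : ∃ a, a ∉ (P : Subgroup A) := by
    by_contra hcon
    push Not at hcon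
    haveI : Group.IsNilpotent A :=
      (IsPGroup.of_card (n := n) (by rw [← hn, (eq_top_iff' _).2 hcon, card_top]) : IsPGroup 2 A).isNilpotent
    exact not_subsingleton A (subsingleton_of_perfect_solvable hperf inferInstance)
  haveI := Fintype.ofFinite V
  set m := Module.finrank (ZMod q) V with hm
  have hV : Nat.card V = q ^ m := by
    rw [Module.natCard_eq_pow_finrank (K := ZMod q), Nat.card_zmod]
  -- determinants are one
  let d : A →* ZMod q := LinearMap.det.comp ρ
  have hdet : ∀ x, LinearMap.det (ρ x) = 1 := fun x =>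
    congrArg Units.val (hom_eq_one hperf d.toHomUnits x)
  obtain ⟨e, he⟩ : Even m := by
    rcases Nat.even_or_odd m with h0 | h0
    · exact h0
    · exfalso
      have h1 := hdet z
      rw [hz, show (-1 : Module.End (ZMod q) V) = (-1 : ZMod q) • 1 by rw [neg_one_smul],
        LinearMap.det_smul, map_one, mul_one, ← hm, h0.neg_one_pow] at h1
      have h2 : ((2 : ℕ) : ZMod q) = 0 := by push_cast; linear_combination -h1
      exact hqA ((Nat.prime_dvd_prime_iff_eq hq.out Nat.prime_two).1 ((ZMod.natCast_eq_zero_iff 2 q).1 h2))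
  have he0 : 0 < e := by
    have h1 : 0 < m := Module.finrank_pos
    omega
  have hlt : q ^ e < 2 ^ n := by
    have h1 := card_lt_sq h P hfpf ha
    rw [hV, he, hn, ← two_mul, mul_comm 2 e, pow_mul] at h1
    exact lt_of_pow_lt_pow_left₀ 2 (Nat.zero_le _) h1
  have hdvd : 2 ^ n ∣ q ^ (2 * e) - 1 := by
    have h1 := dvd_card_sub_one (ρ := ρ) (P : Subgroup A) hfpf
    rwa [hn, hV, he, ← two_mul] at h1
  obtain ⟨v, hv⟩ := exists_ne (0 : V)
  set H := fixer ρ v with hH
  have hcard : Nat.card A = 2 ^ n * Nat.card H := by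
    rw [← hn, ← index_mul_card H]
    exact congrArg (· * Nat.card H) (Nat.card_congr (Equiv.ofBijective _ (card_quotient_fixer h P hfpf hv))).symm
  rcases exceptional hqodd hq3 he0 hdvd hlt with rfl | ⟨rfl, rfl⟩
  · -- dimension two
    have hH1 : H = ⊥ := by
      refine (eq_bot_iff_forall _).2 fun x hx => eq_one_of_unipotent h ?_
      set f := ρ x with hf
      let b := Module.finBasisOfFinrankEq (ZMod q) V (show Module.finrank (ZMod q) V = 2 by rw [← hm, he])
      set t := (LinearMap.toMatrix b b f).trace with ht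
      have hch := LinearMap.aeval_self_charpoly f
      rw [← LinearMap.charpoly_toMatrix f b, Matrix.charpoly_fin_two, LinearMap.det_toMatrix, hf,
        hdet, ← hf, ← ht] at hch
      simp only [map_add, map_sub, map_mul, map_pow, Polynomial.aeval_X, Polynomial.aeval_C,
        Module.algebraMap_end_eq_smul_id, map_one] at hch
      have h1 := congrArg (fun g : Module.End (ZMod q) V => g v) hch
      have hfv : f v = v := hx
      simp only [LinearMap.add_apply, LinearMap.sub_apply, Module.End.mul_apply, LinearMap.smul_apply,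
        LinearMap.id_apply, Module.End.one_apply, LinearMap.zero_apply, pow_two, hfv] at h1
      have ht2 : t = 2 := by
        have h2 : ((2 : ZMod q) - t) • v = 0 := by
          rw [sub_smul, two_smul, ← h1]; abel
        exact (sub_eq_zero.1 ((smul_eq_zero.1 h2).resolve_right hv)).symm
      rw [ht2] at hch
      calc (f - 1) * (f - 1) = f ^ 2 - (2 : ZMod q) • f + 1 := by
            rw [sub_mul, mul_sub, one_mul, mul_one, two_smul, pow_two]; abel
        _ = 0 := by
            rw [← hch]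
            ext y
            simp
    have : Nat.card A = Nat.card (P : Subgroup A) := by rw [hcard, hH1, card_bot, mul_one, hn]
    exact ha ((card_eq_iff_eq_top _).1 this.symm ▸ mem_top a)
  · -- `q = 3`, dimension four
    have hn4 : n = 4 := by
      have h1 : 2 ^ n ∣ 80 := by simpa using hdvd
      have h2 : (9 : ℕ) < 2 ^ n := by simpa using hlt
      have h3 := Nat.le_of_dvd (by norm_num) h1
      have h4 : n < 7 := by
        by_contra h5
        have := Nat.pow_le_pow_right (n := 2) (by norm_num) (show 7 ≤ n by omega)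
        omega
      interval_cases n <;> omega
    set L := Submodule.span (ZMod 3) {v} with hL
    have hinv : ∀ x ∈ H, L ≤ L.comap (ρ x) := by
      intro x hx w hw
      obtain ⟨c, rfl⟩ := Submodule.mem_span_singleton.1 hw
      show ρ x (c • v) ∈ L
      rw [map_smul, show ρ x v = v from hx]
      exact Submodule.smul_mem _ c (Submodule.mem_span_singleton_self v)
    let σ : H →* Module.End (ZMod 3) (V ⧸ L) :=
      { toFun := fun x => L.mapQ L (ρ x) (hinv x x.2)
        map_one' := by ext w; simp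
        map_mul' := fun x y => by ext w; simp }
    have hσinj : Function.Injective σ.toHomUnits := by
      rw [injective_iff_map_eq_one]
      intro x hx
      have hx' : σ x = 1 := congrArg Units.val hx
      refine Subtype.ext (eq_one_of_unipotent h ?_)
      ext w
      have h1 : ρ (x : A) w - w ∈ L := by
        have := congrArg (fun g : Module.End (ZMod 3) (V ⧸ L) => g (Submodule.Quotient.mk w)) hx'
        simpa [σ, Submodule.Quotient.eq] using this
      obtain ⟨c, hc⟩ := Submodule.mem_span_singleton.1 h1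
      simp [Module.End.mul_apply, ← hc, show ρ (x : A) v = v from x.2]
    have hdim : Module.finrank (ZMod 3) (V ⧸ L) = 3 := by
      have h1 := Submodule.finrank_quotient_add_finrank L
      rw [finrank_span_singleton hv, ← hm, he] at h1
      omega
    let b := Module.finBasisOfFinrankEq (ZMod 3) (V ⧸ L) hdim
    let ε : (Module.End (ZMod 3) (V ⧸ L))ˣ ≃* GL (Fin 3) (ZMod 3) :=
      Units.mapEquiv (LinearMap.toMatrixAlgEquiv b).toMulEquiv
    have hGL : Nat.card (GL (Fin 3) (ZMod 3)) = 11232 := by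
      rw [Matrix.card_GL_field]
      simp [Fin.prod_univ_three]
    have hdvdGL : Nat.card H ∣ 11232 :=
      hGL ▸ Subgroup.card_dvd_of_injective (ε.toMonoidHom.comp σ.toHomUnits) (ε.injective.comp hσinj)
    have hodd : ¬2 ∣ Nat.card H := fun hd => P.not_dvd_index (by
      have h1 := card_mul_index (P : Subgroup A)
      rw [hcard, hn] at h1
      rwa [Nat.eq_of_mul_eq_mul_left (Nat.two_pow_pos n) h1])
    have h3 : ¬3 ∣ Nat.card H := fun hd => h.cop (hd.trans (card_subgroup_dvd_card H))
    have h13 : Nat.card H ∣ 13 := by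
      rw [show 11232 = (2 ^ 5 * 3 ^ 3) * 13 by norm_num] at hdvdGL
      refine (Nat.Coprime.mul_right ?_ ?_).dvd_of_dvd_mul_left hdvdGL
      · exact ((Nat.prime_two.coprime_iff_not_dvd).2 hodd).symm.pow_right 5
      · exact ((Nat.prime_three.coprime_iff_not_dvd).2 h3).symm.pow_right 3
    obtain ⟨i, -, hi⟩ := (Nat.dvd_prime_pow (by norm_num : Nat.Prime 13)).1 ((pow_one 13).symm ▸ h13)
    exact not_subsingleton A (subsingleton_of_perfect_solvable hperf
      (Induced.Burnside.isSolvable_of_card_eq 2 13 n i Nat.prime_two (by norm_num) (by rw [hcard, hi])))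

end Cfsg.Agent.Lib.OrbitPowers
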