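import Mathlib
import Cfsg.Agent.Lib.Fusion.Thompson
import Cfsg.Agent.Lib.OrbitPowers.TwoCase

/-!
# A coprime linear group with all orbits of `p`-power size is solvable
-/

set_option autoImplicit false

namespace Cfsg.Agent.Lib.OrbitPowers

open Subgroup

universe u w

variable {A : Type w} [Group A] [Finite A] {q p : ℕ} [hq : Fact q.Prime] [hp : Fact p.Prime]
  {V : Type u} [AddCommGroup V] [Module (ZMod q) V] {ρ : A →* Module.End (ZMod q) V}

theorem good_subgroup (h : Good p ρ) (N : Subgroup A) [N.Normal] : Good p (ρ.comp N.subtype) where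
  inj := h.inj.comp N.subtype_injective
  cop hd := h.cop (hd.trans (card_subgroup_dvd_card N))
  orb v := by
    obtain ⟨k, hk⟩ := h.orb v
    have e : fixer (ρ.comp N.subtype) v = (fixer ρ v).subgroupOf N := by ext x; rfl
    obtain ⟨j, -, hj⟩ := (Nat.dvd_prime_pow hp.out).1
      (hk ▸ SylowNumbers.Basic.relIndex_dvd_index_of_normal_right (fixer ρ v) N)
    exact ⟨j, by rw [e]; exact hj⟩

theorem eq_of_pow_eq_one_of_isCyclic {C : Type*} [Group C] [Finite C] [IsCyclic C] {z x : C}
    (hz : orderOf z = p) (hx : x ^ p = 1) : x ∈ zpowers z := by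
  classical
  haveI := Fintype.ofFinite C
  have hsub : (Finset.univ.filter fun a : C => a ∈ zpowers z) =
      Finset.univ.filter fun a : C => a ^ p = 1 := by
    refine Finset.eq_of_subset_of_card_le (fun a ha => ?_) ?_
    · simp only [Finset.mem_filter, Finset.mem_univ, true_and] at ha ⊢
      obtain ⟨m, rfl⟩ := mem_zpowers_iff.1 ha
      rw [← zpow_natCast, ← zpow_mul, mul_comm, zpow_mul, zpow_natCast, ← hz, pow_orderOf_eq_one,
        one_zpow]
    · refine (IsCyclic.card_pow_eq_one_le hp.out.pos).trans (le_of_eq ?_)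
      rw [← Fintype.card_subtype, ← Nat.card_eq_fintype_card]
      exact hz.symm.trans (Nat.card_zpowers z).symm
  have := (Finset.ext_iff.1 hsub x).2 (by simp [hx])
  simpa using this

theorem sylowIrreducible_of (h : Good p ρ) (P : Sylow p A)
    (hirr : ∀ W : Submodule (ZMod q) V, (∀ a, ∀ w ∈ W, ρ a w ∈ W) → W = ⊥ ∨ W = ⊤) :
    SylowIrreducible ρ P := fun W hW => hirr W fun a w hw => by
  obtain ⟨g, hg, hge⟩ := exists_sylow_apply h P a w
  exact hge ▸ hW g hg w hw

/-- Semiregularity: a nontrivial element of the Sylow subgroup fixes no nonzero vector. -/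
theorem fpf_of_forall_prime (P : Sylow p A) {z : A}
    (hzfix : ∀ v, ρ z v = v → v = 0)
    (hu : ∀ x ∈ (P : Subgroup A), orderOf x = p → z ∈ zpowers x) :
    ∀ g ∈ (P : Subgroup A), g ≠ 1 → ∀ v, ρ g v = v → v = 0 := by
  intro g hg hg1 v hv
  obtain ⟨k, hk⟩ := P.2 ⟨g, hg⟩
  have hk' : g ^ p ^ k = 1 := congrArg Subtype.val hk
  obtain ⟨j, -, hj⟩ := (Nat.dvd_prime_pow hp.out).1 (orderOf_dvd_of_pow_eq_one hk')
  obtain ⟨i, rfl⟩ : ∃ i, j = i + 1 := Nat.exists_eq_succ_of_ne_zero fun h0 => hg1 (by
    rw [h0, pow_zero, orderOf_eq_one_iff] at hj; exact hj)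
  have ho : orderOf (g ^ p ^ i) = p := by
    rw [orderOf_pow_of_dvd (pow_ne_zero _ hp.out.ne_zero) (hj ▸ pow_dvd_pow p (Nat.le_succ i)), hj,
      pow_succ, Nat.mul_div_cancel_left _ (Nat.pow_pos hp.out.pos)]
  have hfix : ∀ x ∈ zpowers (g ^ p ^ i), ρ x v = v := fun x hx =>
    (zpowers_le.2 (pow_mem (show g ∈ fixer ρ v from hv) _) hx : x ∈ fixer ρ v)
  exact hzfix v (hfix z (hu _ ((P : Subgroup A).pow_mem hg _) ho))

variable [Finite V]

theorem isSolvable_aux : ∀ (n : ℕ) (A : Type w) [Group A] [Finite A] (V : Type u) [AddCommGroup V]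
    [Module (ZMod q) V] [Finite V] (ρ : A →* Module.End (ZMod q) V),
    Nat.card A + Nat.card V = n → Good p ρ → Group.IsSolvable A := by
  intro n
  induction n using Nat.strong_induction_on with
  | _ n ih =>
  intro A _ _ V _ _ _ ρ hn h
  rcases subsingleton_or_nontrivial A with hs | hs
  · exact Group.isSolvable_of_comm fun a b => Subsingleton.elim _ _
  have hnormal : ∀ N : Subgroup A, N.Normal → N ≠ ⊤ → Group.IsSolvable N := by
    intro N hN hNtop
    refine ih _ ?_ N V (ρ.comp N.subtype) rfl (good_subgroup h N)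
    have h1 : Nat.card N < Nat.card A :=
      lt_of_le_of_ne (card_le_card_group N) fun he => hNtop (eq_top_of_card_eq N he)
    omega
  by_cases hperf : commutator A = ⊤
  swap
  · haveI := hnormal (commutator A) inferInstance hperf
    haveI : Group.IsSolvable (Abelianization A) := Group.isSolvable_of_comm mul_comm
    exact Group.isSolvable_of_ker_le_range (commutator A).subtype (Abelianization.of (G := A))
      (by simp [Abelianization.ker_of])
  exfalso
  haveI : Nontrivial V := by
    by_contra hV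
    rw [not_nontrivial_iff_subsingleton] at hV
    obtain ⟨a, ha⟩ := exists_ne (1 : A)
    exact ha (h.inj (LinearMap.ext fun v => Subsingleton.elim _ _))
  -- smaller representations are trivial
  have hsmall : ∀ (V' : Type u) [AddCommGroup V'] [Module (ZMod q) V'] [Finite V']
      (σ : A →* Module.End (ZMod q) V'), Nat.card V' < Nat.card V →
      (∀ v', ∃ v, fixer ρ v ≤ fixer σ v') → ∀ a, σ a = 1 := by
    intro V' _ _ _ σ hlt hfix
    let σ' : A ⧸ σ.ker →* Module.End (ZMod q) V' := QuotientGroup.lift σ.ker σ le_rfl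
    have hgood : Good p σ' := by
      refine ⟨?_, fun hd => h.cop (hd.trans (card_quotient_dvd_card _)), fun v' => ?_⟩
      · intro x y hxy
        obtain ⟨a, rfl⟩ := QuotientGroup.mk_surjective x
        obtain ⟨b, rfl⟩ := QuotientGroup.mk_surjective y
        have hxy' : σ a = σ b := hxy
        rw [QuotientGroup.eq, MonoidHom.mem_ker, map_mul, ← hxy', ← map_mul, inv_mul_cancel, map_one]
      · obtain ⟨v, hv⟩ := hfix v'
        obtain ⟨k, hk⟩ := h.orb v
        have e : (fixer σ' v').comap (QuotientGroup.mk' σ.ker) = fixer σ v' := by ext a; rfl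
        have h1 : (fixer σ' v').index = (fixer σ v').index := by
          rw [← e, index_comap_of_surjective _ (QuotientGroup.mk'_surjective _)]
        obtain ⟨j, -, hj⟩ := (Nat.dvd_prime_pow hp.out).1 (hk ▸ index_dvd_of_le hv)
        exact ⟨j, by rw [h1, hj]⟩
    have hle : Nat.card (A ⧸ σ.ker) ≤ Nat.card A :=
      Nat.le_of_dvd Nat.card_pos (card_quotient_dvd_card _)
    haveI := ih _ (by omega) (A ⧸ σ.ker) V' σ' rfl hgood
    have := subsingleton_of_perfect_solvable
      (FpfLinear.Perfect.perfect_of_surjective _ (QuotientGroup.mk'_surjective σ.ker) hperf) this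
    intro a
    exact (QuotientGroup.eq_one_iff a).1 (Subsingleton.elim (a : A ⧸ σ.ker) 1)
  -- irreducibility
  have hirr : ∀ W : Submodule (ZMod q) V, (∀ a, ∀ w ∈ W, ρ a w ∈ W) → W = ⊥ ∨ W = ⊤ := by
    intro W hW
    by_contra hcon
    push Not at hcon
    let σ₁ : A →* Module.End (ZMod q) W :=
      { toFun := fun a => (ρ a).restrict (hW a)
        map_one' := by ext w; simp
        map_mul' := fun a b => by ext w; simp }
    let σ₂ : A →* Module.End (ZMod q) (V ⧸ W) :=
      { toFun := fun a => W.mapQ W (ρ a) (hW a)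
        map_one' := by ext w; simp
        map_mul' := fun a b => by ext w; simp }
    have hW1 : Nat.card W < Nat.card V := by
      obtain ⟨x, hx⟩ : ∃ x, x ∉ W := by
        by_contra h0
        push Not at h0
        exact hcon.2 (eq_top_iff.2 fun x _ => h0 x)
      haveI := Fintype.ofFinite V
      haveI := Fintype.ofFinite W
      rw [Nat.card_eq_fintype_card, Nat.card_eq_fintype_card]
      exact Fintype.card_subtype_lt (x := x) hx
    haveI : Finite (V ⧸ W) := Finite.of_surjective _ W.mkQ_surjective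
    have hW2 : Nat.card (V ⧸ W) < Nat.card V := by
      rw [Submodule.card_eq_card_quotient_mul_card W]
      obtain ⟨x, hx, hx0⟩ := W.ne_bot_iff.1 hcon.1
      haveI : Nontrivial W := ⟨⟨x, hx⟩, 0, fun h0 => hx0 (congrArg Subtype.val h0)⟩
      exact lt_mul_of_one_lt_left Nat.card_pos Finite.one_lt_card
    have h1 := hsmall W σ₁ hW1 fun w => ⟨w, fun a ha => Subtype.ext ha⟩
    have h2 := hsmall (V ⧸ W) σ₂ hW2 fun v' => by
      obtain ⟨v, rfl⟩ := Submodule.mkQ_surjective W v'
      exact ⟨v, fun a ha => congrArg (Submodule.Quotient.mk (p := W)) ha⟩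
    obtain ⟨a, ha⟩ := exists_ne (1 : A)
    refine ha (eq_one_of_unipotent h (LinearMap.ext fun v => ?_))
    have hv : ρ a v - v ∈ W := (Submodule.Quotient.eq W).1
      (LinearMap.congr_fun (h2 a) (Submodule.Quotient.mk v))
    have hw := congrArg Subtype.val (LinearMap.congr_fun (h1 a) ⟨_, hv⟩)
    simp only [Module.End.mul_apply, LinearMap.sub_apply, Module.End.one_apply, LinearMap.zero_apply]
    exact sub_eq_zero.2 hw
  obtain ⟨P⟩ : Nonempty (Sylow p A) := inferInstance
  have hPirr := sylowIrreducible_of h P hirr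
  have hP1 : (P : Subgroup A) ≠ ⊥ := by
    intro hP
    obtain ⟨a, ha⟩ := exists_ne (1 : A)
    refine ha (h.inj (LinearMap.ext fun v => ?_))
    obtain ⟨g, hg, hge⟩ := exists_sylow_apply h P a v
    have : g = 1 := mem_bot.1 (hP ▸ hg)
    rw [hge, this]
  haveI : Nontrivial (P : Subgroup A) := (nontrivial_iff_ne_bot _).2 hP1
  have hnb : ¬BlockPair p (P : Subgroup A) := false_of_blockPair h hperf P hPirr
  have hqp : q ≠ p := by
    rintro rfl
    obtain ⟨x, hx⟩ := exists_prime_orderOf_dvd_card' q
      ((P.2.card_eq_or_dvd).resolve_left Finite.one_lt_card.ne')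
    exact h.cop (hx ▸ Subgroup.orderOf_coe x ▸ orderOf_dvd_natCard (x : A))
  have hfix : ∀ {z : A}, z ≠ 1 → (∀ g ∈ (P : Subgroup A), g * z = z * g) → ∀ v, ρ z v = v → v = 0 :=
    fun hz1 hz v hv => (Submodule.mem_bot (ZMod q)).1
      (fixSpace_eq_bot h P hPirr hz1 hz ▸ mem_fixSpace.2 hv)
  by_cases hp2 : p = 2
  · subst hp2
    obtain ⟨b, hb⟩ := (blockPair_or_index_two P.2).resolve_left hnb
    have hneg : ∀ {z : A}, z ∈ (P : Subgroup A) → orderOf z = 2 →
        (∀ g ∈ (P : Subgroup A), g * z = z * g) → ρ z = -1 := by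
      intro z _ hz hzc
      refine LinearMap.ext fun v => ?_
      have hzz : z * z = 1 := by rw [← pow_two, ← hz, pow_orderOf_eq_one]
      have h0 := hfix (fun h1 => by rw [h1, orderOf_one] at hz; omega) hzc (v + ρ z v) (by
        rw [map_add, ← Module.End.mul_apply, ← map_mul, hzz, map_one, Module.End.one_apply, add_comm])
      simpa using eq_neg_of_add_eq_zero_right h0
    -- the central involution
    obtain ⟨z₀, hz₀, hz₀c⟩ : ∃ z₀ : (P : Subgroup A), orderOf z₀ = 2 ∧ z₀ ∈ center (P : Subgroup A) := by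
      haveI := P.2.center_nontrivial
      obtain ⟨w, hw⟩ := exists_prime_orderOf_dvd_card' 2 (G := center (P : Subgroup A))
        (((P.2.to_subgroup _).card_eq_or_dvd).resolve_left Finite.one_lt_card.ne')
      exact ⟨w, by rw [Subgroup.orderOf_coe, hw], w.2⟩
    set z : A := (z₀ : A) with hz
    have hzc : ∀ g ∈ (P : Subgroup A), g * z = z * g := fun g hg =>
      congrArg Subtype.val (mem_center_iff.1 hz₀c ⟨g, hg⟩)
    have hzo : orderOf z = 2 := by rw [hz, Subgroup.orderOf_coe, hz₀]
    have hzneg := hneg z₀.2 hzo hzc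
    have hzuniq : ∀ x : A, ρ x = -1 → x = z := fun x hx => h.inj (hx.trans hzneg.symm)
    set B := (zpowers b).map (P : Subgroup A).subtype with hB
    -- involutions of `⟨b⟩`
    have hBz : ∀ x ∈ zpowers b, orderOf x = 2 → (x : A) = z := by
      intro x hx hxo
      refine hzuniq _ (hneg x.2 (by rw [Subgroup.orderOf_coe, hxo]) fun g hg => ?_)
      haveI : (zpowers b).Normal := by
        rcases (Nat.dvd_prime Nat.prime_two).1 hb with h1 | h1
        · rw [Subgroup.index_eq_one.1 h1]; infer_instance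
        · exact Subgroup.normal_of_index_eq_two h1
      have h1 := (inferInstance : (zpowers b).Normal).conj_mem x hx ⟨g, hg⟩
      have h2 : (⟨(⟨g, hg⟩ : (P : Subgroup A)) * x * (⟨g, hg⟩ : (P : Subgroup A))⁻¹, h1⟩ : zpowers b)
          ∈ zpowers (⟨x, hx⟩ : zpowers b) := by
        refine eq_of_pow_eq_one_of_isCyclic (p := 2) (by rw [Subgroup.orderOf_mk, hxo]) (Subtype.ext ?_)
        show ((⟨g, hg⟩ : (P : Subgroup A)) * x * (⟨g, hg⟩ : (P : Subgroup A))⁻¹) ^ 2 = 1
        have h2' := pow_orderOf_eq_one x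
        rw [hxo] at h2'
        rw [conj_pow, h2', mul_one, mul_inv_cancel]
      obtain ⟨i, hi⟩ := mem_zpowers_iff.1 h2
      have hi' : (x : A) ^ i = g * x * g⁻¹ := congrArg Subtype.val (congrArg Subtype.val hi)
      have hxx : (x : A) ^ (2 : ℤ) = 1 := by
        have h2' := pow_orderOf_eq_one (x : A)
        rw [Subgroup.orderOf_coe, hxo] at h2'
        rw [zpow_ofNat, h2']
      rcases Int.even_or_odd i with ⟨c, rfl⟩ | ⟨c, rfl⟩
      · exfalso
        rw [← two_mul, zpow_mul, hxx, one_zpow, eq_comm, conj_eq_one_iff] at hi'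
        rw [← Subgroup.orderOf_coe, hi', orderOf_one] at hxo
        omega
      · rw [zpow_add_one, zpow_mul, hxx, one_zpow, one_mul] at hi'
        exact (mul_inv_eq_iff_eq_mul.1 hi'.symm)
    have hidx : ∀ N : Subgroup A, N.index ≠ 2 := by
      intro N hN
      haveI := Subgroup.normal_of_index_eq_two hN
      haveI : IsCyclic (A ⧸ N) := isCyclic_of_prime_card (p := 2) hN
      letI : CommGroup (A ⧸ N) := IsCyclic.commGroup
      have h1 : N = ⊤ := eq_top_iff.2 fun a _ =>
        (QuotientGroup.eq_one_iff a).1 (hom_eq_one hperf (QuotientGroup.mk' N) a)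
      rw [h1, index_top] at hN
      omega
    have hu : ∀ x ∈ (P : Subgroup A), orderOf x = 2 → z ∈ zpowers x := by
      intro x hx hxo
      suffices x = z by rw [this]; exact mem_zpowers z
      by_cases hxb : (⟨x, hx⟩ : (P : Subgroup A)) ∈ zpowers b
      · exact hBz _ hxb (by rw [Subgroup.orderOf_mk, hxo])
      have hb2 : (zpowers b).index = 2 := ((Nat.dvd_prime Nat.prime_two).1 hb).resolve_left fun h1 =>
        hxb (Subgroup.index_eq_one.1 h1 ▸ mem_top _)
      obtain ⟨g, hg⟩ := Fusion.Thompson.exists_conj_mem_maximal P B (map_subtype_le _) (by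
        rw [hB, relIndex, subgroupOf, comap_map_eq_self_of_injective (subtype_injective _)]
        exact hb2) hidx x hxo
      obtain ⟨y, hy, hye⟩ := hg
      have hyo : orderOf y = 2 := by
        rw [← Subgroup.orderOf_coe, show (y : A) = g * x * g⁻¹ from hye, ← hxo]
        exact orderOf_injective (MulAut.conj g).toMonoidHom (MulAut.conj g).injective x
      refine hzuniq x ?_
      have h1 : x = g⁻¹ * z * g := by
        rw [← hBz y hy hyo, show (y : A) = g * x * g⁻¹ from hye]; group
      rw [h1, map_mul, map_mul, hzneg, mul_neg_one, neg_mul, ← map_mul, inv_mul_cancel, map_one]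
    refine false_of_two h hperf P (fpf_of_forall_prime P (hfix (fun h1 => ?_) hzc) hu) hqp hzneg
    rw [h1, orderOf_one] at hzo
    omega
  · haveI : IsCyclic (P : Subgroup A) := by
      by_contra hnc
      obtain ⟨E, hEn, hE, hEc⟩ := PGroups.exists_normal_elemAb_sq hp2 P.2 hnc
      haveI := hEn
      exact hnb (blockPair_of_normal P.2 hE hEc)
    obtain ⟨z₀, hz₀⟩ := exists_prime_orderOf_dvd_card' p (G := (P : Subgroup A))
      ((P.2.card_eq_or_dvd).resolve_left Finite.one_lt_card.ne')
    letI : CommGroup (P : Subgroup A) := IsCyclic.commGroup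
    have hzc : ∀ g ∈ (P : Subgroup A), g * (z₀ : A) = (z₀ : A) * g := fun g hg =>
      congrArg Subtype.val (mul_comm (⟨g, hg⟩ : (P : Subgroup A)) z₀)
    have hz1 : (z₀ : A) ≠ 1 := fun h1 => hp.out.ne_one (by
      rw [← hz₀, ← Subgroup.orderOf_coe, h1, orderOf_one])
    have hfpf := fpf_of_forall_prime P (hfix hz1 hzc) fun x hx hxo => by
      have hz : z₀ ∈ zpowers (⟨x, hx⟩ : (P : Subgroup A)) :=
        eq_of_pow_eq_one_of_isCyclic (by rw [Subgroup.orderOf_mk, hxo])
          (by have h2' := pow_orderOf_eq_one z₀; rw [hz₀] at h2'; exact h2')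
      obtain ⟨i, hi⟩ := mem_zpowers_iff.1 hz
      exact mem_zpowers_iff.2 ⟨i, congrArg Subtype.val hi⟩
    have hsimple : ∀ N : Subgroup A, N.Normal → N = ⊥ ∨ N = ⊤ := by
      intro N hN
      by_contra hcon
      push Not at hcon
      haveI := hN
      haveI := hnormal N hN hcon.2
      obtain ⟨M, hMn, hMN, hM1, hmin⟩ := Cores.MinNormal.exists_minimal_le hcon.1
      haveI := hMn
      haveI : Group.IsSolvable M :=
        Group.isSolvable_of_isSolvable_injective (f := inclusion hMN) (inclusion_injective hMN)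
      haveI := Cores.MinNormal.isMulCommutative_of_solvable hM1 hmin
      obtain ⟨r, hr, hMr⟩ := Cores.MinNormal.exists_prime_pow_eq_one hM1 hmin
      haveI := Fact.mk hr
      have hMp := Cores.MinNormal.isPGroup_of_pow_eq_one hMr
      by_cases hrp : r = p
      · exact hM1 (eq_bot_of_cyclic hperf P (hrp ▸ hMp))
      · exact hM1 (eq_bot_of_isPGroup h hrp hMp)
    exact false_of_cyclic h hperf hsimple P hP1 hp2 hfpf

/-- **A coprime linear group all of whose orbits have `p`-power size is solvable.** -/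
theorem isSolvable (h : Good p ρ) : Group.IsSolvable A :=
  isSolvable_aux _ A V ρ rfl h

end Cfsg.Agent.Lib.OrbitPowers
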